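import Cfsg.Agent.H129.Car.AutTw
import Cfsg.Agent.H166.OutTwESix
import Cfsg.Agent.H234.HT.OutD

/-!
# S4933, part (O): the automorphisms of `²E₆(q)` and characteristic polynomials (helper395)

`outD_te6` : `OutD p r f (²E₆(r ^ f))`.
-/

set_option autoImplicit false
set_option linter.unusedSectionVars false

namespace Cfsg.Agent.H395.HT.TE6

open CoxeterSystem Cfsg Cfsg.Lie Cfsg.Lie.ChevalleyDatum
open Cfsg.Agent.ChevalleyStructure Cfsg.Agent.ChevalleyStructure.Elts
open Cfsg.Agent.GpExc.Field Cfsg.Agent.H720.TwFr Cfsg.Agent.H607.Car Cfsg.Agent.H129.Car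
open Cfsg.Agent.BpExc.FamUntw (phi phi_coe)
open Cfsg.Agent.H234.HT

section

variable {r q : ℕ} [Fact r.Prime] {K : Type} [Field K] [Fintype K] (g : K →+* Kb r)

/-- the matrix over the closure -/
noncomputable def E (q : ℕ) (g : K →+* Kb r) (x : ↥(twistedE6 K q)) : Matrix chevE6.Idx chevE6.Idx (Kb r) :=
  ((em6 q g x : Yb r) : GL chevE6.Idx (Kb r))

theorem E_eq (x : ↥(twistedE6 K q)) :
    E q g x = (((x : GL chevE6.Idx K) : Matrix chevE6.Idx chevE6.Idx K)).map g := by
  unfold E
  rw [Cfsg.Agent.BpExc.FamTw.Six.coe_em, coe_glMap]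

theorem cp_map (x : ↥(twistedE6 K q)) : (cp x).map g = (E q g x).charpoly := by
  rw [E_eq, cp, Matrix.charpoly_map]

theorem charpoly_conj {ι : Type} [Fintype ι] [DecidableEq ι] {k : Type} [Field k] (c y : GL ι k) :
    (((c * y * c⁻¹ : GL ι k)) : Matrix ι ι k).charpoly = (y : Matrix ι ι k).charpoly := by
  rw [Units.val_mul, Units.val_mul, Matrix.coe_units_inv]
  exact Matrix.charpoly_units_conj c (y : Matrix ι ι k)

theorem phi_comm (i j : ℕ) (z : Yb r) : phi chevE6 (Kb r) r i (phi chevE6 (Kb r) r j z) =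
    phi chevE6 (Kb r) r j (phi chevE6 (Kb r) r i z) := by
  apply Subtype.ext
  apply Units.ext
  rw [phi_coe, phi_coe, phi_coe, phi_coe]
  ext a b
  simp only [Matrix.map_apply]
  rw [← pow_mul, ← pow_mul, mul_comm]

end

theorem exists_hom {r : ℕ} [Fact r.Prime] (K : Type) [Field K] [Fintype K] [CharP K r] : Nonempty (K →+* Kb r) := by
  let _ : Algebra (ZMod r) K := ZMod.algebra K r
  have : Algebra.IsAlgebraic (ZMod r) K := Algebra.IsAlgebraic.of_finite (ZMod r) K
  exact ⟨((IsAlgClosed.lift : K →ₐ[ZMod r] Kb r) : K →+* Kb r)⟩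

/-- **The automorphisms of `²E₆(q)`.** -/
theorem outD_te6 {K : Type} [Field K] [Fintype K] {p r f : ℕ} (hr : r.Prime) (hf : 0 < f)
    (hK : Fintype.card K = (r ^ f) ^ 2) (hp : p.Prime) (hp5 : 5 ≤ p) : OutD p r f (twistedE6 K (r ^ f)) := by
  classical
  have hrF : Fact r.Prime := ⟨hr⟩
  have hcard : Fintype.card K = r ^ (2 * f) := by rw [hK, ← pow_mul, mul_comm]
  have hchar : CharP K r := by
    obtain ⟨r', hr'⟩ := CharP.exists K
    have hp' : r'.Prime := CharP.char_is_prime K r'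
    have hd : r' ∣ Fintype.card K := by
      have h1 : ((Fintype.card K : ℕ) : K) = 0 := Nat.cast_card_eq_zero K
      exact (CharP.cast_eq_zero_iff K r' _).1 h1
    rw [hcard] at hd
    have h2 := (Nat.prime_dvd_prime_iff_eq hp' hr).1 (hp'.dvd_of_dvd_pow hd)
    rw [← h2]
    exact hr'
  have hq : IsPrimePow (r ^ f) := (isPrimePow_nat_iff _).2 ⟨r, f, hr, hf, rfl⟩
  obtain ⟨φ, hφ, hqq⟩ := Cfsg.Agent.ChevalleyStructure.TwE6Basic.exists_frob hq hK
  obtain ⟨g⟩ := exists_hom (r := r) K
  refine ⟨?_, ?_, ?_⟩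
  · -- `out`
    have hW : Finite CoxeterMatrix.F₄.Group := Nat.finite_of_card_ne_zero (by
      rw [show Nat.card CoxeterMatrix.F₄.Group = 1152 from S1092.result (⟨4, CoxeterMatrix.F₄⟩, 1152) (by simp)]
      norm_num)
    have h1 := Cfsg.Agent.H166.OutTwESix.card_out_eq hφ hqq CoxeterMatrix.F₄.toCoxeterSystem r (2 * f) hq hK hcard
    rw [h1, ← mul_assoc, Nat.factorization_mul (by
      have : 0 < Nat.gcd 3 (r ^ f + 1) := Nat.gcd_pos_of_pos_left _ (by norm_num)
      positivity) hf.ne', Finsupp.add_apply]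
    have h2 : (Nat.gcd 3 (r ^ f + 1) * 2).factorization p = 0 := by
      apply Nat.factorization_eq_zero_of_not_dvd
      intro h
      rcases (Nat.Prime.dvd_mul hp).1 h with h | h
      · have h3 := Nat.le_of_dvd (by norm_num) (h.trans (Nat.gcd_dvd_left 3 (r ^ f + 1)))
        omega
      · have h3 := Nat.le_of_dvd (by norm_num) h
        omega
    rw [h2, zero_add]
  · -- `frob`
    intro s hs x
    apply Polynomial.map_injective g g.injective
    have h1 : (g.comp s) = (iterateFrobenius (Kb r) r f).comp g := by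
      ext a
      show g (s a) = iterateFrobenius (Kb r) r f (g a)
      rw [hs, map_pow, iterateFrobenius_def]
    rw [Polynomial.map_map, h1, ← Polynomial.map_map, cp_map, ← Matrix.charpoly_map]
    have h2 := congrArg (fun y : Yb r => ((y : GL chevE6.Idx (Kb r)) : Matrix chevE6.Idx chevE6.Idx (Kb r)).charpoly)
      (em6_fix g r hf rfl hK x)
    rw [coe_sig6] at h2
    have h3 : (((Cfsg.Agent.ChevalleyStructure.TwE6Basic.sg (iterateFrobenius (Kb r) r f)
        ((em6 (r ^ f) g x : Yb r) : GL chevE6.Idx (Kb r)) : GL chevE6.Idx (Kb r))) :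
          Matrix chevE6.Idx chevE6.Idx (Kb r)).charpoly =
        ((E (r ^ f) g x).map (iterateFrobenius (Kb r) r f)).charpoly := charpoly_conj _ _
    rw [h3] at h2
    exact h2
  · -- `phi`
    intro s hs
    have hbij : Function.Bijective s := (Finite.injective_iff_bijective).1 s.injective
    set τ : K ≃+* K := RingEquiv.ofBijective s hbij with hτd
    have hτ : ∀ a, τ a = a ^ r ^ 1 := fun a => by rw [pow_one]; exact hs a
    refine ⟨Cfsg.Agent.CpAut.RgdTwE6.st (r ^ f) τ, ?_, ⟨2, ?_, ?_⟩, ?_⟩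
    · intro x
      rw [cp, cp, ← Matrix.charpoly_map]
      rfl
    · intro h
      have := Nat.le_of_dvd (by norm_num) h
      omega
    · have h1 : ∀ (k : ℕ) (a : K), (τ ^ k) a = a ^ r ^ k := by
        intro k
        induction k with
        | zero => intro a; rw [pow_zero, pow_zero, pow_one]; rfl
        | succ k ih =>
          intro a
          rw [pow_succ, RingAut.mul_apply, ih, hτ, pow_one, ← pow_mul, pow_succ']
      have h2 : τ ^ (2 * f) = 1 := by
        ext a
        rw [h1, ← hcard, FiniteField.pow_card]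
        rfl
      rw [Cfsg.Agent.CpAut.RgdTwE6.st_pow τ h2]
      exact one_mem _
    · intro α x
      apply Polynomial.map_injective g g.injective
      rw [cp_map, cp_map]
      obtain ⟨s0, j, -, h⟩ := aut_tw g hf rfl hK α
      set z : Yb r := em6 (r ^ f) g (α⁻¹ x) with hz
      have e1 : em6 (r ^ f) g x = s0 * phi chevE6 (Kb r) r j z * s0⁻¹ := by
        rw [hz, ← h, MulAut.apply_inv_self]
      have e2 : em6 (r ^ f) g (α (Cfsg.Agent.CpAut.RgdTwE6.st (r ^ f) τ (α⁻¹ x))) =
          (s0 * (phi chevE6 (Kb r) r 1 s0)⁻¹) * em6 (r ^ f) g (Cfsg.Agent.CpAut.RgdTwE6.st (r ^ f) τ x) *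
            (s0 * (phi chevE6 (Kb r) r 1 s0)⁻¹)⁻¹ := by
        rw [h, em6_st g hτ, em6_st g hτ, e1, ← hz, map_mul, map_mul, map_inv, phi_comm]
        group
      unfold E
      rw [e2, Subgroup.coe_mul, Subgroup.coe_mul, Subgroup.coe_inv]
      exact charpoly_conj _ _

end Cfsg.Agent.H395.HT.TE6
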