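import Mathlib
import Cfsg.Agent.H378.TorFin
import Cfsg.Agent.H129.TorusMain
import Cfsg.Agent.H720.TorusReal

/-!
# Elements of twisted tori with prescribed root values (S4933, part (O), helper395)

`exists_tor` : `w` in the Weyl group, `c` an integral linear form on the root lattice with
`c (w x) ≡ |F| c x` modulo `N`, `N` prime to `d` (`InvC D l d B`): there is `y` in `D.group F` conjugate over the algebraic
closure to the torus element with the value `ζ ^ c(x)` at `x`.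
-/

set_option autoImplicit false
set_option linter.unusedSectionVars false

namespace Cfsg.Agent.H395.HT

open CoxeterSystem Subgroup Cfsg Cfsg.Lie Cfsg.Lie.ChevalleyDatum
open Cfsg.Agent.ChevalleyStructure Cfsg.Agent.ChevalleyStructure.Elts Cfsg.Agent.ChevalleyStructure.CoxeterGeom
  Cfsg.Agent.ChevalleyStructure.CoxeterGeomTypes Cfsg.Agent.ChevalleyStructure.NPerm
open Cfsg.Agent.Tits.Roots Cfsg.Agent.Tits.Core Cfsg.Agent.Nodes Cfsg.Agent.Nodes.Reps Cfsg.Agent.Nodes.BNOf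
  Cfsg.Agent.Nodes.RGDChev Cfsg.Agent.Nodes.Bruhat
open Cfsg.Agent.KFacts.RgdField Cfsg.Agent.KFacts.RgdChevCoord Cfsg.Agent.BpExc.TorCent Cfsg.Agent.BpExc.TorChev
open Cfsg.Agent.BpExc.Tow Cfsg.Agent.BpExc.TowChev Cfsg.Agent.BpExc.Fr
  Cfsg.Agent.BpExc.LangFr Cfsg.Agent.LangThm Cfsg.Agent.BpExc Cfsg.Agent.H129.TorusMain
open Cfsg.Agent.BpExc.FamExt Cfsg.Agent.BpExc.FamUntw
  Cfsg.Agent.BpExc.FamInst Cfsg.Agent.BpExc.FamField
open Cfsg.Agent.H129.TorusChar (cX_vec cX cX_pow cX_one cX_inj isMC_cX cX_root cX_rp cX_mul ch_sigma exists_cX IsMC)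
open Cfsg.Agent.GpExc.Field (glMap emb coe_emb glMap_xG emb_injective coe_glMap)
open Cfsg.Agent.H378.TorFin

universe u v

variable {D : ChevalleyDatum} {l : ℕ} {M : CoxeterMatrix (Fin l)} (hp : IsType D l M) {W : Type*} [Group W]
  (cs : CoxeterSystem M W) {k : Type u} [Field k] [IsAlgClosed k] (hk : LocFin k) (r : ℕ) [Fact r.Prime] [CharP k r]
  {F : Type u} [Field F] [Finite F] (f : F →+* k) {n : ℕ} (hn0 : 0 < n) (hn : Nat.card F = r ^ n)

/-- a linear form on the root lattice -/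
def lf (c : Fin l → ℤ) (x : Fin l → ℤ) : ℤ := ∑ i, x i * c i

theorem lf_zero (c : Fin l → ℤ) : lf c 0 = 0 := by simp [lf]

theorem lf_add (c : Fin l → ℤ) (a b : Fin l → ℤ) : lf c (a + b) = lf c a + lf c b := by
  rw [lf, lf, lf, ← Finset.sum_add_distrib]
  exact Finset.sum_congr rfl fun i _ => by rw [Pi.add_apply]; ring

theorem lf_sr (c : Fin l → ℤ) (i : Fin l) : lf c (sr i) = c i := by
  rw [lf, Finset.sum_eq_single i]
  · rw [sr_self, one_mul]
  · intro j _ hj
    rw [sr_ne hj, zero_mul]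
  · intro h
    exact absurd (Finset.mem_univ i) h

include cs hk in
/-- the torus element is fixed by the twisted Frobenius map -/
theorem twist_fix {N : ℕ} {ζ : k} (hζ : IsPrimitiveRoot ζ N) (hN0 : N ≠ 0) {c : Fin l → ℤ} {t : ↥(D.group k)}
    (ht : t ∈ TT D k) (hc : ∀ x, cX hp t x = ζ ^ lf c x) {w : W}
    (hw : ∀ i, (N : ℤ) ∣ lf c (rep cs hp.isCartan w (sr i)) - (r ^ n : ℕ) * lf c (sr i))
    {hN : NSys M (TT D k) (nc hp k)} {m : ↥(D.group k)} (hm : Rp cs hN w m) : m * phi D k r n t * m⁻¹ = t := by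
  have hζ0 : ζ ≠ 0 := hζ.ne_zero hN0
  have hσf := phi_isFrob (D := D) (k := k) r n
  have hσF := phi_fr hp cs r hk n
  have hzN : ∀ a : ℤ, ζ ^ ((N : ℤ) * a) = 1 := fun a => by
    rw [zpow_mul, zpow_natCast, hζ.pow_eq_one, one_zpow]
  have hσt : phi D k r n t ∈ TT D k := (hσF.tor t).2 ht
  have hmt : m * phi D k r n t * m⁻¹ ∈ TT D k :=
    (Subgroup.mem_normalizer_iff.1 hm.mem_normalizer _).1 hσt
  have hcσ : ∀ a, cX hp (phi D k r n t) a = cX hp t a ^ r ^ n := by
    have hmc : IsMC fun a => cX hp t a ^ r ^ n := by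
      refine ⟨by rw [(isMC_cX hp ht).zero, one_pow], fun a b => ?_⟩
      rw [(isMC_cX hp ht).add, mul_pow]
    refine fun a => (isMC_cX hp hσt).ext hmc (fun i => ?_) a
    have h1 := ch_sigma hp cs hσf hσF (isRoot_sr cs hp.isCartan i) ht
    show cX hp (phi D k r n t) (sr i) = cX hp t (sr i) ^ r ^ n
    rw [cX_root hp cs hσt (isRoot_sr _ hp.isCartan i), cX_root hp cs ht (isRoot_sr _ hp.isCartan i)]
    exact h1
  have h1 : IsMC fun a => cX hp t (repAut cs hp.isCartan w a) :=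
    (isMC_cX hp ht).comp (repAut cs hp.isCartan w).toAddMonoidHom
  have h2 : ∀ a, cX hp (m * phi D k r n t * m⁻¹) (rep cs hp.isCartan w a) = cX hp t a ^ r ^ n := fun a => by
    rw [cX_rp hp cs hk r hm hσt a, hcσ]
  have h3 : ∀ a, cX hp t (rep cs hp.isCartan w a) = cX hp t a ^ r ^ n := by
    have hmc : IsMC fun a => cX hp t a ^ r ^ n := by
      refine ⟨by rw [(isMC_cX hp ht).zero, one_pow], fun a b => ?_⟩
      rw [(isMC_cX hp ht).add, mul_pow]
    refine fun a => h1.ext hmc (fun i => ?_) a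
    show cX hp t (rep cs hp.isCartan w (sr i)) = cX hp t (sr i) ^ r ^ n
    obtain ⟨b, hb⟩ := hw i
    rw [hc, hc, ← zpow_natCast, ← zpow_mul]
    have h4 : lf c (rep cs hp.isCartan w (sr i)) = lf c (sr i) * ((r ^ n : ℕ) : ℤ) + (N : ℤ) * b := by linarith
    rw [h4, zpow_add₀ hζ0, hzN, mul_one]
  refine cX_inj hp hmt ht fun i => ?_
  have h4 := h2 (rep cs hp.isCartan w⁻¹ (sr i))
  have h5 := h3 (rep cs hp.isCartan w⁻¹ (sr i))
  rw [rep_apply_inv] at h4 h5
  rw [h4, h5]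

include cs hk hn0 hn in
/-- **Elements of a twisted torus.** -/
theorem exists_tor {d : ℕ} {B : Fin l → Fin l → ℤ} (hB : InvC D l d B) (hd : d ≠ 0) {N : ℕ} (hN0 : N ≠ 0)
    (hNd : N.Coprime d) {ζ : k} (hζ : IsPrimitiveRoot ζ N) (c : Fin l → ℤ) (w : W)
    (hw : ∀ i, (N : ℤ) ∣ lf c (rep cs hp.isCartan w (sr i)) - (Nat.card F : ℤ) * lf c (sr i)) :
    ∃ (y : ↥(D.group F)) (z t : ↥(D.group k)), emb hp.inList f y = z * t * z⁻¹ ∧ t ∈ TT D k ∧
      (∀ x, cX hp t x = ζ ^ lf c x) ∧ y ^ N = 1 := by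
  have hζ0 : ζ ≠ 0 := hζ.ne_zero hN0
  have hMC : IsMC fun x => ζ ^ lf c x := by
    refine ⟨by rw [lf_zero, zpow_zero], fun a b => ?_⟩
    rw [lf_add, zpow_add₀ hζ0]
  obtain ⟨t, ht, hct⟩ := exists_cX hp hB hd hMC (fun i => IsAlgClosed.exists_pow_nat_eq _ (Nat.pos_of_ne_zero hd))
  obtain ⟨m, hm⟩ := exists_rp cs (H378.TorChar.nsysL hp cs hk r) w
  obtain ⟨z, hz⟩ := lang' hp r hn0 m
  have hfix : m * phi D k r n t * m⁻¹ = t := twist_fix hp cs hk r hζ hN0 ht hct (by
    intro i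
    have := hw i
    rwa [hn] at this) hm
  have hσz : phi D k r n z = z * m := by rw [← hz]; group
  have hfz : phi D k r n (z * t * z⁻¹) = z * t * z⁻¹ := by
    rw [map_mul, map_mul, map_inv, hσz]
    calc z * m * phi D k r n t * (z * m)⁻¹ = z * (m * phi D k r n t * m⁻¹) * z⁻¹ := by group
      _ = _ := by rw [hfix]
  have htN : t ^ N = 1 := by
    refine cX_inj hp (pow_mem ht N) (one_mem _) fun i => ?_
    rw [cX_pow hp ht, cX_one, hct, ← zpow_natCast, ← zpow_mul, mul_comm, zpow_mul, zpow_natCast, hζ.pow_eq_one,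
      one_zpow]
  have hyN : (z * t * z⁻¹) ^ N = 1 := by rw [conj_pow, htN, mul_one, mul_inv_cancel]
  obtain ⟨y0, hy0⟩ := fix_pow_mem hp f r hn hB hd hfz
  -- `d * u = 1` modulo `N`
  obtain ⟨u, hu⟩ : ∃ u : ℕ, ((z * t * z⁻¹) ^ d) ^ u = z * t * z⁻¹ :=
    exists_pow_eq_self_of_coprime (Nat.Coprime.symm (Nat.Coprime.coprime_dvd_left (orderOf_dvd_of_pow_eq_one hyN) hNd))
  refine ⟨y0 ^ u, z, t, ?_, ht, hct, ?_⟩
  · rw [map_pow, hy0, hu]
  · apply emb_injective hp.inList f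
    rw [map_pow, map_pow, hy0, hu, hyN, map_one]

include hp in
/-- a torus element as a diagonal matrix -/
theorem TT_diag {K : Type u} [Field K] {t : ↥(D.group K)} (ht : t ∈ TT D K) :
    (((t : ↥(D.group K)) : GL D.Idx K) : Matrix D.Idx D.Idx K) =
      Matrix.diagonal (Sum.elim (fun _ => (1 : K)) (fun s : Fin D.nroots => cX hp t (vec D l s))) := by
  classical
  let S : Subgroup ↥(D.group K) :=
    { carrier := {t | t ∈ TT D K ∧ (((t : ↥(D.group K)) : GL D.Idx K) : Matrix D.Idx D.Idx K) =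
        Matrix.diagonal (Sum.elim (fun _ => (1 : K)) (fun s : Fin D.nroots => cX hp t (vec D l s)))}
      one_mem' := by
        refine ⟨one_mem _, ?_⟩
        rw [Subgroup.coe_one, Units.val_one, ← Matrix.diagonal_one]
        congr 1
        funext i
        rcases i with i | i
        · simp
        · simp [cX_one]
      mul_mem' := by
        rintro a b ⟨ha, hc⟩ ⟨hb, hd⟩
        refine ⟨mul_mem ha hb, ?_⟩
        rw [Subgroup.coe_mul, Units.val_mul, hc, hd, Matrix.diagonal_mul_diagonal]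
        congr 1
        funext i
        rcases i with i | i
        · simp
        · simp only [Sum.elim_inr]
          rw [cX_mul hp ha hb]
      inv_mem' := by
        rintro a ⟨ha, hc⟩
        refine ⟨inv_mem ha, ?_⟩
        have h1 : (((a : ↥(D.group K)) : GL D.Idx K) : Matrix D.Idx D.Idx K) *
            Matrix.diagonal (Sum.elim (fun _ => (1 : K)) (fun s : Fin D.nroots => cX hp a⁻¹ (vec D l s))) = 1 := by
          rw [hc, Matrix.diagonal_mul_diagonal, ← Matrix.diagonal_one]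
          congr 1
          funext i
          rcases i with i | i
          · simp
          · simp only [Sum.elim_inr]
            rw [← cX_mul hp ha (inv_mem ha), mul_inv_cancel, cX_one]
        rw [Subgroup.coe_inv, Matrix.coe_units_inv]
        exact Matrix.inv_eq_right_inv h1 }
  have h1 : TT D K ≤ S := by
    refine (TT_le hp).trans ?_
    rw [Subgroup.closure_le]
    rintro g ⟨j, a, ha, rfl⟩
    refine ⟨hc_mem hp j ha, ?_⟩
    have h2 : (((hc hp j a : ↥(D.group K)) : GL D.Idx K) : Matrix D.Idx D.Idx K) = D.hMat K (D.simple j) a := by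
      show ((hG hp.inList (D.simple j) a : GL D.Idx K) : Matrix D.Idx D.Idx K) = _
      exact coe_hG hp.inList _ _
    rw [h2, Cfsg.Agent.S1033.result (F := K) D hp.inList j (lt_rank hp j) a ha]
    congr 1
    funext s
    rcases s with s | s
    · simp
    · simp only [Sum.elim_inr]
      rw [cX_vec hp (hc_mem hp j ha) s.2, ch_hc hp j ha s.2]
  exact (h1 ht).2


include cs hk hn0 hn in
/-- **The characteristic polynomial** of the powers of the element of `exists_tor` on the adjoint module. -/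
theorem exists_tor_charpoly {d : ℕ} {B : Fin l → Fin l → ℤ} (hB : InvC D l d B) (hd : d ≠ 0) {N : ℕ} (hN0 : N ≠ 0)
    (hNd : N.Coprime d) {ζ : k} (hζ : IsPrimitiveRoot ζ N) (c : Fin l → ℤ) (w : W)
    (hw : ∀ i, (N : ℤ) ∣ lf c (rep cs hp.isCartan w (sr i)) - (Nat.card F : ℤ) * lf c (sr i)) :
    ∃ y : ↥(D.group F), y ^ N = 1 ∧ (∃ z t : ↥(D.group k), emb hp.inList f y = z * t * z⁻¹ ∧ t ∈ TT D k ∧
        ∀ x, cX hp t x = ζ ^ lf c x) ∧ ∀ j : ℕ,
      ((((y ^ j : ↥(D.group F)) : GL D.Idx F) : Matrix D.Idx D.Idx F).charpoly).map f =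
        (Polynomial.X - Polynomial.C 1) ^ D.rank *
          ∏ s : Fin D.nroots, (Polynomial.X - Polynomial.C ((ζ ^ lf c (vec D l s)) ^ j)) := by
  classical
  obtain ⟨y, z, t, hy, ht, hc, hyN⟩ := exists_tor hp cs hk r f hn0 hn hB hd hN0 hNd hζ c w hw
  refine ⟨y, hyN, ⟨z, t, hy, ht, hc⟩, fun j => ?_⟩
  have h1 : emb hp.inList f (y ^ j) = z * t ^ j * z⁻¹ := by rw [map_pow, hy, conj_pow]
  have h2 : (((y ^ j : ↥(D.group F)) : GL D.Idx F) : Matrix D.Idx D.Idx F).map f =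
      (((z * t ^ j * z⁻¹ : ↥(D.group k)) : GL D.Idx k) : Matrix D.Idx D.Idx k) := by
    rw [← h1]
    rfl
  have h3 : ((((y ^ j : ↥(D.group F)) : GL D.Idx F) : Matrix D.Idx D.Idx F).charpoly).map f =
      ((((y ^ j : ↥(D.group F)) : GL D.Idx F) : Matrix D.Idx D.Idx F).map f).charpoly :=
    (Matrix.charpoly_map _ f).symm
  rw [h3, h2]
  have h4 : (((z * t ^ j * z⁻¹ : ↥(D.group k)) : GL D.Idx k) : Matrix D.Idx D.Idx k) =
      ((z : GL D.Idx k) : Matrix D.Idx D.Idx k) * (((t ^ j : ↥(D.group k)) : GL D.Idx k) : Matrix D.Idx D.Idx k) *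
        (((z : GL D.Idx k)⁻¹ : GL D.Idx k) : Matrix D.Idx D.Idx k) := by
    rw [Subgroup.coe_mul, Subgroup.coe_mul, Subgroup.coe_inv, Units.val_mul, Units.val_mul]
  have h5 : (((z : GL D.Idx k) : Matrix D.Idx D.Idx k) *
      (((t ^ j : ↥(D.group k)) : GL D.Idx k) : Matrix D.Idx D.Idx k) *
        (((z : GL D.Idx k)⁻¹ : GL D.Idx k) : Matrix D.Idx D.Idx k)).charpoly =
      (((t ^ j : ↥(D.group k)) : GL D.Idx k) : Matrix D.Idx D.Idx k).charpoly := by
    have h6 := Matrix.charpoly_units_conj (z : GL D.Idx k) (((t ^ j : ↥(D.group k)) : GL D.Idx k) : Matrix D.Idx D.Idx k)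
    rw [← Matrix.coe_units_inv] at h6
    exact h6
  rw [h4, h5, TT_diag hp (pow_mem ht j), Matrix.charpoly_diagonal, Fintype.prod_sum_type]
  congr 1
  · simp
  · refine Finset.prod_congr rfl fun s _ => ?_
    rw [Sum.elim_inr, cX_pow hp ht, hc]

end Cfsg.Agent.H395.HT
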