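import Mathlib
import Cfsg.Agent.H395.HT.TorY
import Cfsg.Agent.H234.HT.ExcDefs

/-!
# S4933, part (O): the cells (family, e, p) by kernel checks

Root values in `ℤ[ζ_e]`, written in the basis `1, x, x², x³`; `q` modulo `p²` runs through the roots of `Φ_e`.
-/

set_option autoImplicit false
set_option linter.unusedSectionVars false

namespace Cfsg.Agent.H395.HT

open CoxeterSystem Subgroup Cfsg Cfsg.Lie Cfsg.Lie.ChevalleyDatum
open Cfsg.Agent.ChevalleyStructure Cfsg.Agent.ChevalleyStructure.Elts Cfsg.Agent.ChevalleyStructure.CoxeterGeom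
  Cfsg.Agent.ChevalleyStructure.CoxeterGeomTypes Cfsg.Agent.ChevalleyStructure.NPerm
open Cfsg.Agent.Tits.Roots Cfsg.Agent.Tits.Core Cfsg.Agent.Nodes Cfsg.Agent.Nodes.Reps Cfsg.Agent.Nodes.BNOf
  Cfsg.Agent.Nodes.RGDChev Cfsg.Agent.Nodes.Bruhat
open Cfsg.Agent.BpExc.TorCent Cfsg.Agent.BpExc.TorChev Cfsg.Agent.BpExc.Tow Cfsg.Agent.BpExc.TowChev Cfsg.Agent.BpExc.Fr
open Cfsg.Agent.BpExc.LangFr Cfsg.Agent.LangThm Cfsg.Agent.BpExc Cfsg.Agent.BpExc.FamExt Cfsg.Agent.BpExc.FamUntw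
  Cfsg.Agent.BpExc.FamInst Cfsg.Agent.BpExc.FamField
open Cfsg.Agent.GpExc.Field (glMap emb coe_emb glMap_xG emb_injective coe_glMap)
open Cfsg.Agent.H234.HT

/-! ### coordinates -/

abbrev V4 : Type := ℤ × ℤ × ℤ × ℤ

/-- evaluation -/
def ev (q : ℤ) (a : V4) : ℤ := a.1 + q * (a.2.1 + q * (a.2.2.1 + q * a.2.2.2))

theorem ev_zero (q : ℤ) : ev q 0 = 0 := by simp [ev]

theorem ev_add (q : ℤ) (a b : V4) : ev q (a + b) = ev q a + ev q b := by
  simp only [ev, Prod.fst_add, Prod.snd_add]; ring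

theorem ev_smul (q : ℤ) (n : ℤ) (a : V4) : ev q (n • a) = n * ev q a := by
  simp only [ev, Prod.smul_fst, Prod.smul_snd, smul_eq_mul]; ring

theorem ev_sum {ι : Type*} (q : ℤ) (s : Finset ι) (f : ι → V4) : ev q (∑ i ∈ s, f i) = ∑ i ∈ s, ev q (f i) := by
  classical
  induction s using Finset.induction_on with
  | empty => simp [ev_zero]
  | insert a s ha ih => rw [Finset.sum_insert ha, Finset.sum_insert ha, ev_add, ih]

/-- the value of the form at a vector of the root lattice -/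
def lv {l : ℕ} (c : Fin l → V4) (x : Fin l → ℤ) : V4 := ∑ i, x i • c i

theorem ev_lv {l : ℕ} (q : ℤ) (c : Fin l → V4) (x : Fin l → ℤ) : ev q (lv c x) = lf (fun i => ev q (c i)) x := by
  rw [lv, ev_sum, lf]
  exact Finset.sum_congr rfl fun i _ => ev_smul q _ _

/-- the action of a simple reflection on forms -/
def rf {l : ℕ} (A : Fin l → Fin l → ℤ) (i : Fin l) (c : Fin l → V4) : Fin l → V4 := fun j => c j - A i j • c i

/-- the action of a word -/
def rw' {l : ℕ} (A : Fin l → Fin l → ℤ) (L : List (Fin l)) (c : Fin l → V4) : Fin l → V4 :=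
  L.foldl (fun c i => rf A i c) c

section W

variable {l : ℕ} {M : CoxeterMatrix (Fin l)} {W : Type*} [Group W] (cs : CoxeterSystem M W) {A : Fin l → Fin l → ℤ}
  (h : IsCartan M A)

theorem lv_sr (c : Fin l → V4) (i : Fin l) : lv c (sr i) = c i := by
  rw [lv, Finset.sum_eq_single i]
  · rw [sr_self, one_smul]
  · intro j _ hj
    rw [sr_ne hj, zero_smul]
  · intro h
    exact absurd (Finset.mem_univ i) h

theorem lv_sub (c : Fin l → V4) (x y : Fin l → ℤ) : lv c (x - y) = lv c x - lv c y := by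
  rw [lv, lv, lv, ← Finset.sum_sub_distrib]
  exact Finset.sum_congr rfl fun i _ => by rw [Pi.sub_apply, sub_smul]

theorem lv_smul (c : Fin l → V4) (n : ℤ) (x : Fin l → ℤ) : lv c (n • x) = n • lv c x := by
  rw [lv, lv, Finset.smul_sum]
  exact Finset.sum_congr rfl fun i _ => by rw [Pi.smul_apply, smul_eq_mul, mul_smul]

theorem lv_rep_simple (c : Fin l → V4) (i : Fin l) (x : Fin l → ℤ) :
    lv c (rep cs h (cs.simple i) x) = lv (rf A i c) x := by
  rw [rep_simple_eq, lv_sub, lv_smul, lv_sr]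
  unfold lv rf pairing
  simp only [smul_sub, Finset.sum_sub_distrib, Finset.sum_smul]
  congr 1
  refine Finset.sum_congr rfl fun j _ => ?_
  rw [← mul_smul]
  congr 1
  ring

/-- the element of a word -/
theorem lv_rep_word (L : List (Fin l)) (c : Fin l → V4) (x : Fin l → ℤ) :
    lv c (rep cs h (L.map cs.simple).prod x) = lv (rw' A L c) x := by
  induction L generalizing c with
  | nil => simp [rw']
  | cons i L ih =>
    rw [List.map_cons, List.prod_cons, rep_mul_apply, lv_rep_simple, ih]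
    rfl

end W

/-- multiplication by `x` modulo `P` (monic of degree `n ≤ 4`) with quotient `κ` -/
def okEig {l : ℕ} (A : Fin l → Fin l → ℤ) (L : List (Fin l)) (c : Fin l → V4) (P : V4 × ℤ) (κ : Fin l → ℤ) : Prop :=
  ∀ i, let a := rw' A L c i; let b := c i
    a.1 = κ i * P.1.1 ∧ a.2.1 - b.1 = κ i * P.1.2.1 ∧ a.2.2.1 - b.2.1 = κ i * P.1.2.2.1 ∧
      a.2.2.2 - b.2.2.1 = κ i * P.1.2.2.2 ∧ - b.2.2.2 = κ i * P.2

/-- the value of the polynomial -/
def evP (q : ℤ) (P : V4 × ℤ) : ℤ := ev q P.1 + q ^ 4 * P.2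

theorem ev_of_okEig {l : ℕ} {A : Fin l → Fin l → ℤ} {L : List (Fin l)} {c : Fin l → V4} {P : V4 × ℤ} {κ : Fin l → ℤ}
    (h : okEig A L c P κ) (q : ℤ) (i : Fin l) : ev q (rw' A L c i) - q * ev q (c i) = κ i * evP q P := by
  obtain ⟨h0, h1, h2, h3, h4⟩ := h i
  unfold evP ev
  linear_combination h0 + q * h1 + q ^ 2 * h2 + q ^ 3 * h3 + q ^ 4 * h4

/-! ### the counts -/

/-- the table of the root values -/
def tab (D : ChevalleyDatum) (l : ℕ) (c : Fin l → V4) : List V4 :=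
  (List.finRange D.nroots).map fun s : Fin D.nroots => lv c (vec D l (s : ℕ))

/-- the value modulo `p ^ 2` -/
def val (p q0 : ℕ) (a : V4) : ℕ := (ev (q0 : ℤ) a % ((p ^ 2 : ℕ) : ℤ)).toNat

def chkA (p : ℕ) (T : List V4) (q0 r : ℕ) : Bool :=
  decide (r % p ≠ 0) &&
    (decide ((T.map fun a => if val p q0 a % p = r % p then 1 else 0).sum % p ≠ 0) ||
      (decide (5 ≤ p) && decide ((T.map fun a => if val p q0 a % p = r % p then val p q0 a / p else 0).sum % p ≠ 0)))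

def chkB (p : ℕ) (T : List V4) (q0 : ℕ) (a0 : V4) : Bool :=
  decide (val p q0 a0 % p ≠ 0) && decide ((T.map fun a => if a = a0 then 1 else 0).sum % p ≠ 0) &&
    T.all fun a => decide (a = a0) || decide (val p q0 a ≠ val p q0 a0)

def chkAll (p : ℕ) (P : V4 × ℤ) (T : List V4) (cells : List (ℕ × ℕ × V4)) : Bool :=
  ((List.range (p ^ 2)).all fun q0 => decide (evP q0 P % ((p ^ 2 : ℕ) : ℤ) ≠ 0) || cells.any fun x => decide (x.1 = q0)) &&
    cells.all fun x => chkA p T x.1 x.2.1 && chkB p T x.1 x.2.2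

theorem chkAll_spec {p : ℕ} {P : V4 × ℤ} {T : List V4} {cells : List (ℕ × ℕ × V4)} (h : chkAll p P T cells = true)
    {q0 : ℕ} (hq : q0 < p ^ 2) (h0 : evP q0 P % ((p ^ 2 : ℕ) : ℤ) = 0) :
    ∃ (r : ℕ) (a0 : V4), chkA p T q0 r = true ∧ chkB p T q0 a0 = true := by
  unfold chkAll at h
  rw [Bool.and_eq_true, List.all_eq_true, List.all_eq_true] at h
  obtain ⟨h1, h2⟩ := h
  have h3 := h1 q0 (List.mem_range.2 hq)
  rw [Bool.or_eq_true, decide_eq_true_iff, List.any_eq_true] at h3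
  rcases h3 with h3 | ⟨x, hx, h3⟩
  · exact absurd h0 h3
  · have h4 := h2 x hx
    rw [decide_eq_true_iff] at h3
    rw [Bool.and_eq_true, h3] at h4
    exact ⟨_, _, h4.1, h4.2⟩

/-- evaluation modulo `n` -/
theorem ev_modEq {q q' n : ℤ} (h : q ≡ q' [ZMOD n]) (a : V4) : ev q a ≡ ev q' a [ZMOD n] := by
  unfold ev
  exact (Int.ModEq.refl _).add (h.mul ((Int.ModEq.refl _).add (h.mul ((Int.ModEq.refl _).add (h.mul (Int.ModEq.refl _))))))

theorem evP_modEq {q q' n : ℤ} (h : q ≡ q' [ZMOD n]) (P : V4 × ℤ) : evP q P ≡ evP q' P [ZMOD n] := by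
  unfold evP
  exact (ev_modEq h _).add ((h.pow 4).mul (Int.ModEq.refl _))

/-- the exponents -/
def exq (D : ChevalleyDatum) (l : ℕ) (c : Fin l → V4) (q N : ℕ) : D.Idx → ℕ :=
  Sum.elim (fun _ => 0) (fun s : Fin D.nroots => (ev (q : ℤ) (lv c (vec D l s)) % (N : ℤ)).toNat)

theorem card_idx {D : ChevalleyDatum} (ex : D.Idx → ℕ) (Q : ℕ → Prop) [DecidablePred Q]
    (h0 : ∀ i, ¬ Q (ex (Sum.inl i))) : (Finset.univ.filter fun i => Q (ex i)).card =
      ((List.finRange D.nroots).map fun s => if Q (ex (Sum.inr s)) then 1 else 0).sum := by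
  rw [Finset.card_filter, Fintype.sum_sum_type, Finset.sum_eq_zero fun i _ => by rw [if_neg (h0 i)], zero_add,
    Fin.sum_univ_def]

theorem sum_idx {D : ChevalleyDatum} (ex : D.Idx → ℕ) (Q : ℕ → Prop) [DecidablePred Q] (g : ℕ → ℕ)
    (h0 : ∀ i, ¬ Q (ex (Sum.inl i))) : ∑ i ∈ Finset.univ.filter (fun i => Q (ex i)), g (ex i) =
      ((List.finRange D.nroots).map fun s => if Q (ex (Sum.inr s)) then g (ex (Sum.inr s)) else 0).sum := by
  rw [Finset.sum_filter, Fintype.sum_sum_type, Finset.sum_eq_zero fun i _ => by rw [if_neg (h0 i)], zero_add,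
    Fin.sum_univ_def]

theorem toNat_emod_emod {a : ℤ} {N p : ℕ} (hN : 0 < N) (hd : p ∣ N) :
    (((a % (N : ℤ)).toNat % p : ℕ) : ℤ) = a % (p : ℤ) := by
  rw [Int.natCast_mod, Int.toNat_of_nonneg (Int.emod_nonneg _ (by omega)),
    Int.emod_emod_of_dvd _ (Int.natCast_dvd_natCast.2 hd)]

/-- **The count.** -/
theorem cnt_of {D : ChevalleyDatum} {l : ℕ} {c : Fin l → V4} {T : List V4} (hT : tab D l c = T) {p q m q0 r : ℕ}
    (hp : p.Prime) (hm : 2 ≤ m) (hq0 : q % p ^ 2 = q0) {a0 : V4} (hA : chkA p T q0 r = true)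
    (hB : chkB p T q0 a0 = true) : Cnt p m (exq D l c q (p ^ m)) := by
  have hp0 : 0 < p := hp.pos
  have hmod : (q : ℤ) ≡ (q0 : ℤ) [ZMOD ((p ^ 2 : ℕ) : ℤ)] := by
    rw [← hq0, Int.natCast_mod]
    exact (Int.mod_modEq _ _).symm
  have hev : ∀ a : V4, ev (q : ℤ) a % ((p ^ 2 : ℕ) : ℤ) = ev (q0 : ℤ) a % ((p ^ 2 : ℕ) : ℤ) := fun a => ev_modEq hmod a
  have hval : ∀ a : V4, ((val p q0 a : ℕ) : ℤ) = ev (q : ℤ) a % ((p ^ 2 : ℕ) : ℤ) := fun a => by
    unfold val
    rw [Int.toNat_of_nonneg (Int.emod_nonneg _ (by positivity)), hev]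
  unfold chkA at hA
  unfold chkB at hB
  simp only [Bool.and_eq_true, Bool.or_eq_true, decide_eq_true_eq, List.all_eq_true] at hA hB
  obtain ⟨hA1, hA2⟩ := hA
  obtain ⟨⟨hB1, hB2⟩, hB3⟩ := hB
  rcases Nat.eq_or_lt_of_le hm with rfl | hm3
  · -- `m = 2`
    have hex : ∀ s : Fin D.nroots, exq D l c q (p ^ 2) (Sum.inr s) = val p q0 (lv c (vec D l s)) := fun s => by
      show (ev (q : ℤ) (lv c (vec D l s)) % ((p ^ 2 : ℕ) : ℤ)).toNat = _
      rw [hev]
      rfl
    refine ⟨r, fun h => hA1 (Nat.mod_eq_zero_of_dvd h), ?_⟩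
    have h21 : p ^ (2 - 1) = p := by norm_num
    rw [h21]
    have h0 : ∀ i : Fin D.rank, ¬ exq D l c q (p ^ 2) (Sum.inl i) % p = r % p := fun i hi => by
      have h1 : exq D l c q (p ^ 2) (Sum.inl i) = 0 := rfl
      rw [h1, Nat.zero_mod] at hi
      exact hA1 hi.symm
    rcases hA2 with hA2 | ⟨h5, hA2⟩
    · left
      intro h
      apply hA2
      rw [card_idx (exq D l c q (p ^ 2)) (fun x => x % p = r % p) h0] at h
      rw [← hT]
      unfold tab
      rw [List.map_map]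
      simp only [hex] at h
      exact Nat.mod_eq_zero_of_dvd h
    · right
      refine ⟨h5, fun h => ?_⟩
      apply hA2
      rw [sum_idx (exq D l c q (p ^ 2)) (fun x => x % p = r % p) (fun x => x / p) h0] at h
      rw [← hT]
      unfold tab
      rw [List.map_map]
      simp only [hex] at h
      exact Nat.mod_eq_zero_of_dvd h
  · -- `m ≥ 3`
    obtain ⟨r', hr'⟩ : ∃ r' : ℕ, r' = (ev (q : ℤ) a0 % ((p ^ m : ℕ) : ℤ)).toNat := ⟨_, rfl⟩
    have hpm : 0 < p ^ m := by positivity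
    have hpd : p ∣ p ^ m := dvd_pow_self p (by omega)
    have hrp : r' % p ≠ 0 := by
      intro h
      apply hB1
      have h1 := toNat_emod_emod (a := ev (q : ℤ) a0) hpm hpd
      rw [← hr', h] at h1
      have h2 : ((val p q0 a0 % p : ℕ) : ℤ) = 0 := by
        rw [Int.natCast_mod, hval, Int.emod_emod_of_dvd _ (Int.natCast_dvd_natCast.2 (dvd_pow_self p two_ne_zero)), ← h1]
        rfl
      exact_mod_cast h2
    refine ⟨r', fun h => hrp (Nat.mod_eq_zero_of_dvd h), Or.inl ?_⟩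
    have hpp : p ∣ p ^ (m - 1) := dvd_pow_self p (by omega)
    have hpm1 : p ^ (m - 1) ∣ p ^ m := pow_dvd_pow p (by omega)
    have hp2 : p ^ 2 ∣ p ^ (m - 1) := pow_dvd_pow p (by omega)
    have h0 : ∀ i : Fin D.rank, ¬ exq D l c q (p ^ m) (Sum.inl i) % p ^ (m - 1) = r' % p ^ (m - 1) := fun i hi => by
      have h1 : exq D l c q (p ^ m) (Sum.inl i) = 0 := rfl
      rw [h1, Nat.zero_mod] at hi
      apply hrp
      rw [← Nat.mod_mod_of_dvd r' hpp, ← hi, Nat.zero_mod]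
    rw [card_idx (exq D l c q (p ^ m)) (fun x => x % p ^ (m - 1) = r' % p ^ (m - 1)) h0]
    intro h
    apply hB2
    rw [← hT]
    unfold tab
    rw [List.map_map]
    have hiff : ∀ s : Fin D.nroots, (exq D l c q (p ^ m) (Sum.inr s) % p ^ (m - 1) = r' % p ^ (m - 1)) ↔
        lv c (vec D l s) = a0 := by
      intro s
      have e1 : ((exq D l c q (p ^ m) (Sum.inr s) % p ^ (m - 1) : ℕ) : ℤ) =
          ev (q : ℤ) (lv c (vec D l s)) % ((p ^ (m - 1) : ℕ) : ℤ) := toNat_emod_emod hpm hpm1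
      have e2 : ((r' % p ^ (m - 1) : ℕ) : ℤ) = ev (q : ℤ) a0 % ((p ^ (m - 1) : ℕ) : ℤ) := by
        rw [hr']
        exact toNat_emod_emod hpm hpm1
      constructor
      · intro h1
        by_contra h2
        have h3 := hB3 (lv c (vec D l s)) (by
          rw [← hT]
          exact List.mem_map.2 ⟨s, List.mem_finRange s, rfl⟩)
        rcases h3 with h3 | h3
        · exact h2 h3
        · apply h3
          have h4 : ((val p q0 (lv c (vec D l s)) : ℕ) : ℤ) = ((val p q0 a0 : ℕ) : ℤ) := by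
            rw [hval, hval]
            rw [← Int.emod_emod_of_dvd (ev (q : ℤ) (lv c (vec D l s))) (Int.natCast_dvd_natCast.2 hp2),
              ← Int.emod_emod_of_dvd (ev (q : ℤ) a0) (Int.natCast_dvd_natCast.2 hp2), ← e1, ← e2, h1]
          exact_mod_cast h4
      · intro h1
        have h2 : ((exq D l c q (p ^ m) (Sum.inr s) % p ^ (m - 1) : ℕ) : ℤ) = ((r' % p ^ (m - 1) : ℕ) : ℤ) := by
          rw [e1, e2, h1]
        exact_mod_cast h2
    simp only [hiff] at h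
    exact Nat.mod_eq_zero_of_dvd h

/-! ### divisibility by `Φ_e(q)` -/

theorem not_dvd_pow_sub {p q e d : ℕ} (he : orderOf ((q : ℕ) : ZMod p) = e) (hd : ¬ e ∣ d) :
    ¬ (p : ℤ) ∣ (q : ℤ) ^ d - 1 := by
  intro h
  apply hd
  rw [← he, orderOf_dvd_iff_pow_eq_one]
  have h1 := (ZMod.intCast_zmod_eq_zero_iff_dvd ((q : ℤ) ^ d - 1) p).2 h
  push_cast at h1
  exact sub_eq_zero.1 h1

theorem dvd_of_mul {p m : ℕ} (hp : p.Prime) {R Φ : ℤ} (h : ((p ^ m : ℕ) : ℤ) ∣ R * Φ) (hR : ¬ (p : ℤ) ∣ R) :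
    ((p ^ m : ℕ) : ℤ) ∣ Φ := by
  have hc : IsCoprime ((p ^ m : ℕ) : ℤ) R := by
    push_cast
    exact IsCoprime.pow_left ((Nat.prime_iff_prime_int.1 hp).coprime_iff_not_dvd.2 hR)
  exact hc.dvd_of_dvd_mul_left h

/-- the cyclotomic polynomials -/
def Ph : ℕ → V4 × ℤ
  | 3 => ((1, 1, 1, 0), 0)
  | 4 => ((1, 0, 1, 0), 0)
  | 5 => ((1, 1, 1, 1), 1)
  | 6 => ((1, -1, 1, 0), 0)
  | 8 => ((1, 0, 0, 0), 1)
  | 10 => ((1, -1, 1, -1), 1)
  | 12 => ((1, 0, -1, 0), 1)
  | _ => ((0, 0, 0, 0), 0)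

theorem dvd_Ph {p q m e : ℕ} (hp : p.Prime) (he : orderOf ((q : ℕ) : ZMod p) = e)
    (hL : e ∈ [3, 4, 5, 6, 8, 10, 12]) (hd : ((p ^ m : ℕ) : ℤ) ∣ (q : ℤ) ^ e - 1) :
    ((p ^ m : ℕ) : ℤ) ∣ evP q (Ph e) := by
  have hpZ := Nat.prime_iff_prime_int.1 hp
  simp only [List.mem_cons, List.not_mem_nil, or_false] at hL
  rcases hL with rfl | rfl | rfl | rfl | rfl | rfl | rfl
  · refine dvd_of_mul hp (R := (q : ℤ) ^ 1 - 1) ?_ (not_dvd_pow_sub he (by decide))
    convert hd using 1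
    simp only [evP, ev, Ph]; ring
  · refine dvd_of_mul hp (R := (q : ℤ) ^ 2 - 1) ?_ (not_dvd_pow_sub he (by decide))
    convert hd using 1
    simp only [evP, ev, Ph]; ring
  · refine dvd_of_mul hp (R := (q : ℤ) ^ 1 - 1) ?_ (not_dvd_pow_sub he (by decide))
    convert hd using 1
    simp only [evP, ev, Ph]; ring
  · refine dvd_of_mul hp (R := ((q : ℤ) ^ 3 - 1) * ((q : ℤ) + 1)) ?_ ?_
    · convert hd using 1
      simp only [evP, ev, Ph]; ring
    · intro h
      rcases hpZ.dvd_or_dvd h with h | h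
      · exact not_dvd_pow_sub he (by decide) h
      · refine not_dvd_pow_sub he (d := 2) (by decide) ?_
        have : (q : ℤ) ^ 2 - 1 = ((q : ℤ) + 1) * (q - 1) := by ring
        rw [this]
        exact Dvd.dvd.mul_right h _
  · refine dvd_of_mul hp (R := (q : ℤ) ^ 4 - 1) ?_ (not_dvd_pow_sub he (by decide))
    convert hd using 1
    simp only [evP, ev, Ph]; ring
  · refine dvd_of_mul hp (R := ((q : ℤ) ^ 5 - 1) * ((q : ℤ) + 1)) ?_ ?_
    · convert hd using 1
      simp only [evP, ev, Ph]; ring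
    · intro h
      rcases hpZ.dvd_or_dvd h with h | h
      · exact not_dvd_pow_sub he (by decide) h
      · refine not_dvd_pow_sub he (d := 2) (by decide) ?_
        have : (q : ℤ) ^ 2 - 1 = ((q : ℤ) + 1) * (q - 1) := by ring
        rw [this]
        exact Dvd.dvd.mul_right h _
  · refine dvd_of_mul hp (R := ((q : ℤ) ^ 6 - 1) * ((q : ℤ) ^ 2 + 1)) ?_ ?_
    · convert hd using 1
      simp only [evP, ev, Ph]; ring
    · intro h
      rcases hpZ.dvd_or_dvd h with h | h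
      · exact not_dvd_pow_sub he (by decide) h
      · refine not_dvd_pow_sub he (d := 4) (by decide) ?_
        have : (q : ℤ) ^ 4 - 1 = ((q : ℤ) ^ 2 + 1) * (q ^ 2 - 1) := by ring
        rw [this]
        exact Dvd.dvd.mul_right h _

/-! ### the cell -/

/-- **A cell** `(D, e, p)`: the element of the twisted torus of the word `L` with root values `ev q (c ·)`. -/
theorem hasElt_cell {D : ChevalleyDatum} {l : ℕ} {M : CoxeterMatrix (Fin l)} (hp : IsType D l M) (F : Type) [Field F]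
    [Fintype F] {p : ℕ} [hpp : Fact p.Prime] (hpF : ¬ p ∣ Fintype.card F) {d : ℕ} {B : Fin l → Fin l → ℤ}
    (hB : InvC D l d B) (hd : d ≠ 0) (hpd : ¬ p ∣ d) {e : ℕ} (he : orderOf ((Fintype.card F : ℕ) : ZMod p) = e)
    (hL : e ∈ [3, 4, 5, 6, 8, 10, 12]) {c : Fin l → V4} {L : List (Fin l)} {κ : Fin l → ℤ}
    (hE : okEig (cartanOf D l) L c (Ph e) κ) {T : List V4} (hT : tab D l c = T) {cells : List (ℕ × ℕ × V4)}
    (hchk : chkAll p (Ph e) T cells = true) : HasElt p (D.group F) (Fintype.card F) := by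
  classical
  intro m hm hdm _
  obtain ⟨r, hr⟩ := CharP.exists F
  have hrp : Fact r.Prime := ⟨CharP.char_is_prime F r⟩
  have hkc : CharP (AlgebraicClosure F) r := charP_of_injective_algebraMap (algebraMap F _).injective r
  let _ : Algebra (ZMod r) F := ZMod.algebra F r
  have hFa : Algebra.IsAlgebraic (ZMod r) F := Algebra.IsAlgebraic.of_finite (ZMod r) F
  have hka : Algebra.IsAlgebraic (ZMod r) (AlgebraicClosure F) := Algebra.IsAlgebraic.trans (ZMod r) F _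
  have hlf : LocFin (AlgebraicClosure F) := locFin_of_isAlgebraic r _
  obtain ⟨n, hn0, hn⟩ := exists_card (F := F) r
  have hq : Nat.card F = Fintype.card F := Nat.card_eq_fintype_card
  set q := Fintype.card F with hqdef
  rw [he] at hdm
  have hq1 : 1 ≤ q := Fintype.card_pos
  have hdm' : ((p ^ m : ℕ) : ℤ) ∣ (q : ℤ) ^ e - 1 := by
    have h1 := Int.natCast_dvd_natCast.2 hdm
    rw [Nat.cast_sub (Nat.one_le_pow _ _ hq1)] at h1
    push_cast at h1 ⊢
    exact h1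
  have hPh := dvd_Ph hpp.out he hL hdm'
  have hpr : ¬ r ∣ p ^ m := by
    intro h
    have h1 := (Nat.prime_dvd_prime_iff_eq hrp.out hpp.out).1 (hrp.out.dvd_of_dvd_pow h)
    apply hpF
    rw [← h1, ← hq, hn]
    exact dvd_pow_self r hn0.ne'
  have hNk : NeZero ((p ^ m : ℕ) : AlgebraicClosure F) := ⟨fun h => hpr ((CharP.cast_eq_zero_iff _ r _).1 h)⟩
  obtain ⟨ζ, hζ⟩ : ∃ ζ : AlgebraicClosure F, IsPrimitiveRoot ζ (p ^ m) :=
    HasEnoughRootsOfUnity.exists_primitiveRoot _ _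
  have hpm0 : p ^ m ≠ 0 := pow_ne_zero _ hpp.out.ne_zero
  have hNd : (p ^ m).Coprime d := Nat.Coprime.pow_left _ ((Nat.Prime.coprime_iff_not_dvd hpp.out).2 hpd)
  obtain ⟨y, hyN, -, hchar⟩ := exists_tor_charpoly hp M.toCoxeterSystem hlf r (algebraMap F (AlgebraicClosure F)) hn0 hn
    hB hd hpm0 hNd hζ (fun i => ev (q : ℤ) (c i)) (L.map M.toCoxeterSystem.simple).prod (by
      intro i
      rw [← ev_lv, lv_rep_word, lv_sr, lf_sr, hq]
      have h1 := ev_of_okEig hE (q : ℤ) i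
      rw [h1]
      exact Dvd.dvd.mul_left hPh _)
  refine ⟨y, y.2, AlgebraicClosure F, inferInstance, algebraMap F (AlgebraicClosure F), ζ, exq D l c q (p ^ m), hζ,
    ?_, ?_⟩
  · unfold Eig
    have h1 := hchar 1
    rw [pow_one] at h1
    rw [Matrix.charpoly_map, h1, Fintype.prod_sum_type]
    congr 1
    · show _ = ∏ _i : Fin D.rank, (Polynomial.X - Polynomial.C (ζ ^ 0))
      rw [pow_zero, Finset.prod_const, Finset.card_univ, Fintype.card_fin]
    · refine Finset.prod_congr rfl fun s _ => ?_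
      congr 2
      rw [pow_one, ← ev_lv]
      show _ = ζ ^ (ev (q : ℤ) (lv c (vec D l s)) % ((p ^ m : ℕ) : ℤ)).toNat
      have h2 : (((ev (q : ℤ) (lv c (vec D l s)) % ((p ^ m : ℕ) : ℤ)).toNat : ℕ) : ℤ) =
          ev (q : ℤ) (lv c (vec D l s)) % ((p ^ m : ℕ) : ℤ) :=
        Int.toNat_of_nonneg (Int.emod_nonneg _ (by exact_mod_cast hpm0))
      rw [← zpow_natCast ζ (Int.toNat _), h2]
      have hζ0 : ζ ≠ 0 := hζ.ne_zero hpm0
      conv_lhs => rw [← Int.emod_add_mul_ediv (ev (q : ℤ) (lv c (vec D l s))) ((p ^ m : ℕ) : ℤ)]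
      rw [zpow_add₀ hζ0, zpow_mul, zpow_natCast ζ (p ^ m), hζ.pow_eq_one, one_zpow, mul_one]
  · have hlt : q % p ^ 2 < p ^ 2 := Nat.mod_lt _ (by have := hpp.out.pos; positivity)
    obtain ⟨r0, a0, hA, hB'⟩ := chkAll_spec hchk hlt (by
      have h1 : ((p ^ 2 : ℕ) : ℤ) ∣ evP q (Ph e) :=
        (Int.natCast_dvd_natCast.2 (pow_dvd_pow p hm)).trans hPh
      have h2 : (((q % p ^ 2 : ℕ) : ℕ) : ℤ) ≡ (q : ℤ) [ZMOD ((p ^ 2 : ℕ) : ℤ)] := by
        rw [Int.natCast_mod]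
        exact Int.mod_modEq _ _
      have h3 := evP_modEq h2 (Ph e)
      rw [Int.ModEq, Int.emod_eq_zero_of_dvd h1] at h3
      exact h3)
    exact cnt_of hT hpp.out hm rfl hA hB'

end Cfsg.Agent.H395.HT
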