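import Mathlib
import Cfsg.Agent.H395.HT.Cells
import Cfsg.Agent.H234.HT.ExcDefs3

/-!
# S4933, part (O): the cells with the second moment (for `E₇`, `e = 4`, `p = 5`)

Root values in `ℤ[ζ_e]`, written in the basis `1, x, x², x³`; `q` modulo `p²` runs through the roots of `Φ_e`.
-/

set_option autoImplicit false
set_option linter.unusedSectionVars false

namespace Cfsg.Agent.H395.HT

open CoxeterSystem Subgroup Cfsg Cfsg.Lie Cfsg.Lie.ChevalleyDatum
open Cfsg.Agent.ChevalleyStructure Cfsg.Agent.ChevalleyStructure.Elts Cfsg.Agent.ChevalleyStructure.CoxeterGeom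
  Cfsg.Agent.ChevalleyStructure.CoxeterGeomTypes Cfsg.Agent.ChevalleyStructure.NPerm
open Cfsg.Agent.Tits.Roots Cfsg.Agent.Tits.Core Cfsg.Agent.Nodes Cfsg.Agent.Nodes.Reps Cfsg.Agent.Nodes.BNOf
  Cfsg.Agent.Nodes.RGDChev Cfsg.Agent.Nodes.Bruhat
open Cfsg.Agent.BpExc.TorCent Cfsg.Agent.BpExc.TorChev Cfsg.Agent.BpExc.Tow Cfsg.Agent.BpExc.TowChev Cfsg.Agent.BpExc.Fr
open Cfsg.Agent.BpExc.LangFr Cfsg.Agent.LangThm Cfsg.Agent.BpExc Cfsg.Agent.BpExc.FamExt Cfsg.Agent.BpExc.FamUntw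
  Cfsg.Agent.BpExc.FamInst Cfsg.Agent.BpExc.FamField
open Cfsg.Agent.GpExc.Field (glMap emb coe_emb glMap_xG emb_injective coe_glMap)
open Cfsg.Agent.H234.HT

def chkA3 (p : ℕ) (T : List V4) (q0 r : ℕ) : Bool :=
  decide (r % p ≠ 0) &&
    (decide (5 ≤ p) && decide ((T.map fun a => if val p q0 a % p = r % p then (val p q0 a / p) ^ 2 else 0).sum % p ≠ 0))

def chkAll3 (p : ℕ) (P : V4 × ℤ) (T : List V4) (cells : List (ℕ × ℕ × V4)) : Bool :=
  ((List.range (p ^ 2)).all fun q0 => decide (evP q0 P % ((p ^ 2 : ℕ) : ℤ) ≠ 0) || cells.any fun x => decide (x.1 = q0)) &&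
    cells.all fun x => chkA3 p T x.1 x.2.1 && chkB p T x.1 x.2.2

theorem chkAll3_spec {p : ℕ} {P : V4 × ℤ} {T : List V4} {cells : List (ℕ × ℕ × V4)} (h : chkAll3 p P T cells = true)
    {q0 : ℕ} (hq : q0 < p ^ 2) (h0 : evP q0 P % ((p ^ 2 : ℕ) : ℤ) = 0) :
    ∃ (r : ℕ) (a0 : V4), chkA3 p T q0 r = true ∧ chkB p T q0 a0 = true := by
  unfold chkAll3 at h
  rw [Bool.and_eq_true, List.all_eq_true, List.all_eq_true] at h
  obtain ⟨h1, h2⟩ := h
  have h3 := h1 q0 (List.mem_range.2 hq)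
  rw [Bool.or_eq_true, decide_eq_true_iff, List.any_eq_true] at h3
  rcases h3 with h3 | ⟨x, hx, h3⟩
  · exact absurd h0 h3
  · have h4 := h2 x hx
    rw [decide_eq_true_iff] at h3
    rw [Bool.and_eq_true, h3] at h4
    exact ⟨_, _, h4.1, h4.2⟩

/-- **The count.** -/
theorem cnt3_of {D : ChevalleyDatum} {l : ℕ} {c : Fin l → V4} {T : List V4} (hT : tab D l c = T) {p q m q0 r : ℕ}
    (hp : p.Prime) (hm : 2 ≤ m) (hq0 : q % p ^ 2 = q0) {a0 : V4} (hA : chkA3 p T q0 r = true)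
    (hB : chkB p T q0 a0 = true) : Cnt3 p m (exq D l c q (p ^ m)) := by
  have hp0 : 0 < p := hp.pos
  have hmod : (q : ℤ) ≡ (q0 : ℤ) [ZMOD ((p ^ 2 : ℕ) : ℤ)] := by
    rw [← hq0, Int.natCast_mod]
    exact (Int.mod_modEq _ _).symm
  have hev : ∀ a : V4, ev (q : ℤ) a % ((p ^ 2 : ℕ) : ℤ) = ev (q0 : ℤ) a % ((p ^ 2 : ℕ) : ℤ) := fun a => ev_modEq hmod a
  have hval : ∀ a : V4, ((val p q0 a : ℕ) : ℤ) = ev (q : ℤ) a % ((p ^ 2 : ℕ) : ℤ) := fun a => by
    unfold val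
    rw [Int.toNat_of_nonneg (Int.emod_nonneg _ (by positivity)), hev]
  unfold chkA3 at hA
  unfold chkB at hB
  simp only [Bool.and_eq_true, Bool.or_eq_true, decide_eq_true_eq, List.all_eq_true] at hA hB
  obtain ⟨hA1, h5, hA2⟩ := hA
  obtain ⟨⟨hB1, hB2⟩, hB3⟩ := hB
  rcases Nat.eq_or_lt_of_le hm with rfl | hm3
  · -- `m = 2`
    have hex : ∀ s : Fin D.nroots, exq D l c q (p ^ 2) (Sum.inr s) = val p q0 (lv c (vec D l s)) := fun s => by
      show (ev (q : ℤ) (lv c (vec D l s)) % ((p ^ 2 : ℕ) : ℤ)).toNat = _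
      rw [hev]
      rfl
    refine Or.inr ⟨r, fun h => hA1 (Nat.mod_eq_zero_of_dvd h), h5, ?_⟩
    have h21 : p ^ (2 - 1) = p := by norm_num
    rw [h21]
    have h0 : ∀ i : Fin D.rank, ¬ exq D l c q (p ^ 2) (Sum.inl i) % p = r % p := fun i hi => by
      have h1 : exq D l c q (p ^ 2) (Sum.inl i) = 0 := rfl
      rw [h1, Nat.zero_mod] at hi
      exact hA1 hi.symm
    intro h
    apply hA2
    rw [sum_idx (exq D l c q (p ^ 2)) (fun x => x % p = r % p) (fun x => (x / p) ^ 2) h0] at h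
    rw [← hT]
    unfold tab
    rw [List.map_map]
    simp only [hex] at h
    exact Nat.mod_eq_zero_of_dvd h
  · -- `m ≥ 3`
    obtain ⟨r', hr'⟩ : ∃ r' : ℕ, r' = (ev (q : ℤ) a0 % ((p ^ m : ℕ) : ℤ)).toNat := ⟨_, rfl⟩
    have hpm : 0 < p ^ m := by positivity
    have hpd : p ∣ p ^ m := dvd_pow_self p (by omega)
    have hrp : r' % p ≠ 0 := by
      intro h
      apply hB1
      have h1 := toNat_emod_emod (a := ev (q : ℤ) a0) hpm hpd
      rw [← hr', h] at h1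
      have h2 : ((val p q0 a0 % p : ℕ) : ℤ) = 0 := by
        rw [Int.natCast_mod, hval, Int.emod_emod_of_dvd _ (Int.natCast_dvd_natCast.2 (dvd_pow_self p two_ne_zero)), ← h1]
        rfl
      exact_mod_cast h2
    refine Or.inl ⟨r', fun h => hrp (Nat.mod_eq_zero_of_dvd h), Or.inl ?_⟩
    have hpp : p ∣ p ^ (m - 1) := dvd_pow_self p (by omega)
    have hpm1 : p ^ (m - 1) ∣ p ^ m := pow_dvd_pow p (by omega)
    have hp2 : p ^ 2 ∣ p ^ (m - 1) := pow_dvd_pow p (by omega)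
    have h0 : ∀ i : Fin D.rank, ¬ exq D l c q (p ^ m) (Sum.inl i) % p ^ (m - 1) = r' % p ^ (m - 1) := fun i hi => by
      have h1 : exq D l c q (p ^ m) (Sum.inl i) = 0 := rfl
      rw [h1, Nat.zero_mod] at hi
      apply hrp
      rw [← Nat.mod_mod_of_dvd r' hpp, ← hi, Nat.zero_mod]
    rw [card_idx (exq D l c q (p ^ m)) (fun x => x % p ^ (m - 1) = r' % p ^ (m - 1)) h0]
    intro h
    apply hB2
    rw [← hT]
    unfold tab
    rw [List.map_map]
    have hiff : ∀ s : Fin D.nroots, (exq D l c q (p ^ m) (Sum.inr s) % p ^ (m - 1) = r' % p ^ (m - 1)) ↔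
        lv c (vec D l s) = a0 := by
      intro s
      have e1 : ((exq D l c q (p ^ m) (Sum.inr s) % p ^ (m - 1) : ℕ) : ℤ) =
          ev (q : ℤ) (lv c (vec D l s)) % ((p ^ (m - 1) : ℕ) : ℤ) := toNat_emod_emod hpm hpm1
      have e2 : ((r' % p ^ (m - 1) : ℕ) : ℤ) = ev (q : ℤ) a0 % ((p ^ (m - 1) : ℕ) : ℤ) := by
        rw [hr']
        exact toNat_emod_emod hpm hpm1
      constructor
      · intro h1
        by_contra h2
        have h3 := hB3 (lv c (vec D l s)) (by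
          rw [← hT]
          exact List.mem_map.2 ⟨s, List.mem_finRange s, rfl⟩)
        rcases h3 with h3 | h3
        · exact h2 h3
        · apply h3
          have h4 : ((val p q0 (lv c (vec D l s)) : ℕ) : ℤ) = ((val p q0 a0 : ℕ) : ℤ) := by
            rw [hval, hval]
            rw [← Int.emod_emod_of_dvd (ev (q : ℤ) (lv c (vec D l s))) (Int.natCast_dvd_natCast.2 hp2),
              ← Int.emod_emod_of_dvd (ev (q : ℤ) a0) (Int.natCast_dvd_natCast.2 hp2), ← e1, ← e2, h1]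
          exact_mod_cast h4
      · intro h1
        have h2 : ((exq D l c q (p ^ m) (Sum.inr s) % p ^ (m - 1) : ℕ) : ℤ) = ((r' % p ^ (m - 1) : ℕ) : ℤ) := by
          rw [e1, e2, h1]
        exact_mod_cast h2
    simp only [hiff] at h
    exact Nat.mod_eq_zero_of_dvd h
/-! ### the cell -/

/-- **A cell** `(D, e, p)`: the element of the twisted torus of the word `L` with root values `ev q (c ·)`. -/
theorem hasElt3_cell {D : ChevalleyDatum} {l : ℕ} {M : CoxeterMatrix (Fin l)} (hp : IsType D l M) (F : Type) [Field F]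
    [Fintype F] {p : ℕ} [hpp : Fact p.Prime] (hpF : ¬ p ∣ Fintype.card F) {d : ℕ} {B : Fin l → Fin l → ℤ}
    (hB : InvC D l d B) (hd : d ≠ 0) (hpd : ¬ p ∣ d) {e : ℕ} (he : orderOf ((Fintype.card F : ℕ) : ZMod p) = e)
    (hL : e ∈ [3, 4, 5, 6, 8, 10, 12]) {c : Fin l → V4} {L : List (Fin l)} {κ : Fin l → ℤ}
    (hE : okEig (cartanOf D l) L c (Ph e) κ) {T : List V4} (hT : tab D l c = T) {cells : List (ℕ × ℕ × V4)}
    (hchk : chkAll3 p (Ph e) T cells = true) : HasElt3 p (D.group F) (Fintype.card F) := by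
  classical
  intro m hm hdm _
  obtain ⟨r, hr⟩ := CharP.exists F
  have hrp : Fact r.Prime := ⟨CharP.char_is_prime F r⟩
  have hkc : CharP (AlgebraicClosure F) r := charP_of_injective_algebraMap (algebraMap F _).injective r
  let _ : Algebra (ZMod r) F := ZMod.algebra F r
  have hFa : Algebra.IsAlgebraic (ZMod r) F := Algebra.IsAlgebraic.of_finite (ZMod r) F
  have hka : Algebra.IsAlgebraic (ZMod r) (AlgebraicClosure F) := Algebra.IsAlgebraic.trans (ZMod r) F _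
  have hlf : LocFin (AlgebraicClosure F) := locFin_of_isAlgebraic r _
  obtain ⟨n, hn0, hn⟩ := exists_card (F := F) r
  have hq : Nat.card F = Fintype.card F := Nat.card_eq_fintype_card
  set q := Fintype.card F with hqdef
  rw [he] at hdm
  have hq1 : 1 ≤ q := Fintype.card_pos
  have hdm' : ((p ^ m : ℕ) : ℤ) ∣ (q : ℤ) ^ e - 1 := by
    have h1 := Int.natCast_dvd_natCast.2 hdm
    rw [Nat.cast_sub (Nat.one_le_pow _ _ hq1)] at h1
    push_cast at h1 ⊢
    exact h1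
  have hPh := dvd_Ph hpp.out he hL hdm'
  have hpr : ¬ r ∣ p ^ m := by
    intro h
    have h1 := (Nat.prime_dvd_prime_iff_eq hrp.out hpp.out).1 (hrp.out.dvd_of_dvd_pow h)
    apply hpF
    rw [← h1, ← hq, hn]
    exact dvd_pow_self r hn0.ne'
  have hNk : NeZero ((p ^ m : ℕ) : AlgebraicClosure F) := ⟨fun h => hpr ((CharP.cast_eq_zero_iff _ r _).1 h)⟩
  obtain ⟨ζ, hζ⟩ : ∃ ζ : AlgebraicClosure F, IsPrimitiveRoot ζ (p ^ m) :=
    HasEnoughRootsOfUnity.exists_primitiveRoot _ _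
  have hpm0 : p ^ m ≠ 0 := pow_ne_zero _ hpp.out.ne_zero
  have hNd : (p ^ m).Coprime d := Nat.Coprime.pow_left _ ((Nat.Prime.coprime_iff_not_dvd hpp.out).2 hpd)
  obtain ⟨y, hyN, -, hchar⟩ := exists_tor_charpoly hp M.toCoxeterSystem hlf r (algebraMap F (AlgebraicClosure F)) hn0 hn
    hB hd hpm0 hNd hζ (fun i => ev (q : ℤ) (c i)) (L.map M.toCoxeterSystem.simple).prod (by
      intro i
      rw [← ev_lv, lv_rep_word, lv_sr, lf_sr, hq]
      have h1 := ev_of_okEig hE (q : ℤ) i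
      rw [h1]
      exact Dvd.dvd.mul_left hPh _)
  refine ⟨y, y.2, AlgebraicClosure F, inferInstance, algebraMap F (AlgebraicClosure F), ζ, exq D l c q (p ^ m), hζ,
    ?_, ?_⟩
  · unfold Eig
    have h1 := hchar 1
    rw [pow_one] at h1
    rw [Matrix.charpoly_map, h1, Fintype.prod_sum_type]
    congr 1
    · show _ = ∏ _i : Fin D.rank, (Polynomial.X - Polynomial.C (ζ ^ 0))
      rw [pow_zero, Finset.prod_const, Finset.card_univ, Fintype.card_fin]
    · refine Finset.prod_congr rfl fun s _ => ?_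
      congr 2
      rw [pow_one, ← ev_lv]
      show _ = ζ ^ (ev (q : ℤ) (lv c (vec D l s)) % ((p ^ m : ℕ) : ℤ)).toNat
      have h2 : (((ev (q : ℤ) (lv c (vec D l s)) % ((p ^ m : ℕ) : ℤ)).toNat : ℕ) : ℤ) =
          ev (q : ℤ) (lv c (vec D l s)) % ((p ^ m : ℕ) : ℤ) :=
        Int.toNat_of_nonneg (Int.emod_nonneg _ (by exact_mod_cast hpm0))
      rw [← zpow_natCast ζ (Int.toNat _), h2]
      have hζ0 : ζ ≠ 0 := hζ.ne_zero hpm0
      conv_lhs => rw [← Int.emod_add_mul_ediv (ev (q : ℤ) (lv c (vec D l s))) ((p ^ m : ℕ) : ℤ)]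
      rw [zpow_add₀ hζ0, zpow_mul, zpow_natCast ζ (p ^ m), hζ.pow_eq_one, one_zpow, mul_one]
  · have hlt : q % p ^ 2 < p ^ 2 := Nat.mod_lt _ (by have := hpp.out.pos; positivity)
    obtain ⟨r0, a0, hA, hB'⟩ := chkAll3_spec hchk hlt (by
      have h1 : ((p ^ 2 : ℕ) : ℤ) ∣ evP q (Ph e) :=
        (Int.natCast_dvd_natCast.2 (pow_dvd_pow p hm)).trans hPh
      have h2 : (((q % p ^ 2 : ℕ) : ℕ) : ℤ) ≡ (q : ℤ) [ZMOD ((p ^ 2 : ℕ) : ℤ)] := by
        rw [Int.natCast_mod]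
        exact Int.mod_modEq _ _
      have h3 := evP_modEq h2 (Ph e)
      rw [Int.ModEq, Int.emod_eq_zero_of_dvd h1] at h3
      exact h3)
    exact cnt3_of hT hpp.out hm rfl hA hB'
end Cfsg.Agent.H395.HT
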