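import Mathlib
import Cfsg.Agent.H395.HT.Cells

/-!
# S4933, part (O): the cells of E8 (kernel checks)
-/

set_option autoImplicit false
set_option maxRecDepth 100000
set_option maxHeartbeats 4000000

namespace Cfsg.Agent.H395.HT.E8

open Cfsg Cfsg.Lie Cfsg.Agent.ChevalleyStructure Cfsg.Agent.ChevalleyStructure.CoxeterGeomTypes
open Cfsg.Agent.BpExc.FamInst Cfsg.Agent.BpExc.RowsUntw Cfsg.Agent.H234.HT Cfsg.Agent.H395.HT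

/-- the form for `e = 3` -/
def c3 : Fin 8 → V4 := ![(-1, -2, 0, 0), (0, 0, 0, 0), (2, 1, 0, 0), (-1, 0, 0, 0), (0, 0, 0, 0), (0, 0, 0, 0), (0, 0, 0, 0), (0, 0, 0, 0)]

/-- the table of the root values -/
def T3 : List V4 := [
  (0, 0, 0, 0), (0, 0, 0, 0), (0, 0, 0, 0), (0, 0, 0, 0), (0, 0, 0, 0), (-1, 0, 0, 0), (1, 1, 0, 0), (-1, 0, 0, 0),
  (1, 1, 0, 0), (0, 1, 0, 0), (0, 1, 0, 0), (0, 1, 0, 0), (0, 1, 0, 0), (0, 1, 0, 0), (0, -1, 0, 0), (0, -1, 0, 0),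
  (-1, -1, 0, 0), (-1, -1, 0, 0), (-1, -1, 0, 0), (-1, -1, 0, 0), (-1, -1, 0, 0), (1, 0, 0, 0), (1, 0, 0, 0),
  (1, 0, 0, 0), (1, 0, 0, 0), (1, 0, 0, 0), (0, 0, 0, 0), (0, 0, 0, 0), (0, 0, 0, 0), (0, 0, 0, 0), (0, 0, 0, 0),
  (0, 0, 0, 0), (0, 0, 0, 0), (0, 0, 0, 0), (0, 0, 0, 0), (0, 0, 0, 0), (0, 0, 0, 0), (0, 0, 0, 0), (0, 0, 0, 0),
  (0, 0, 0, 0), (0, 0, 0, 0), (0, 0, 0, 0), (0, 0, 0, 0), (0, 0, 0, 0), (0, 0, 0, 0), (0, 0, 0, 0), (-1, 0, 0, 0),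
  (-1, 0, 0, 0), (-1, 0, 0, 0), (-1, 0, 0, 0), (-1, 0, 0, 0), (-1, 0, 0, 0), (-1, 0, 0, 0), (-1, 0, 0, 0),
  (-1, 0, 0, 0), (-1, 0, 0, 0), (1, 1, 0, 0), (1, 1, 0, 0), (1, 1, 0, 0), (1, 1, 0, 0), (1, 1, 0, 0), (1, 1, 0, 0),
  (1, 1, 0, 0), (1, 1, 0, 0), (1, 1, 0, 0), (1, 1, 0, 0), (0, 1, 0, 0), (0, 1, 0, 0), (0, 1, 0, 0), (0, 1, 0, 0),
  (0, 1, 0, 0), (0, 1, 0, 0), (0, 1, 0, 0), (0, 1, 0, 0), (0, 1, 0, 0), (0, 1, 0, 0), (-1, 1, 0, 0), (1, 2, 0, 0),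
  (0, -1, 0, 0), (0, -1, 0, 0), (0, -1, 0, 0), (0, -1, 0, 0), (0, -1, 0, 0), (0, -1, 0, 0), (0, -1, 0, 0),
  (0, -1, 0, 0), (0, -1, 0, 0), (0, -1, 0, 0), (-1, -1, 0, 0), (-1, -1, 0, 0), (-1, -1, 0, 0), (-1, -1, 0, 0),
  (-1, -1, 0, 0), (1, 0, 0, 0), (1, 0, 0, 0), (1, 0, 0, 0), (1, 0, 0, 0), (1, 0, 0, 0), (0, 0, 0, 0),
  (-1, -1, 0, 0), (-1, -1, 0, 0), (-1, -1, 0, 0), (-1, -1, 0, 0), (-1, -1, 0, 0), (-2, -1, 0, 0), (1, 0, 0, 0),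
  (1, 0, 0, 0), (1, 0, 0, 0), (1, 0, 0, 0), (1, 0, 0, 0), (0, 0, 0, 0), (0, 0, 0, 0), (0, 0, 0, 0), (0, 0, 0, 0),
  (0, 0, 0, 0), (0, 0, 0, 0), (0, 0, 0, 0), (0, 0, 0, 0), (0, 0, 0, 0), (0, 0, 0, 0), (0, 0, 0, 0), (0, 0, 0, 0),
  (0, 0, 0, 0), (0, 0, 0, 0), (0, 0, 0, 0), (0, 0, 0, 0), (0, 0, 0, 0), (0, 0, 0, 0), (0, 0, 0, 0), (0, 0, 0, 0),
  (-1, 0, 0, 0), (-1, 0, 0, 0), (-1, 0, 0, 0), (-1, 0, 0, 0), (-1, 0, 0, 0), (2, 1, 0, 0), (1, 1, 0, 0),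
  (1, 1, 0, 0), (1, 1, 0, 0), (1, 1, 0, 0), (1, 1, 0, 0), (0, 0, 0, 0), (-1, 0, 0, 0), (-1, 0, 0, 0),
  (-1, 0, 0, 0), (-1, 0, 0, 0), (-1, 0, 0, 0), (1, 1, 0, 0), (1, 1, 0, 0), (1, 1, 0, 0), (1, 1, 0, 0),
  (1, 1, 0, 0), (0, 1, 0, 0), (0, 1, 0, 0), (0, 1, 0, 0), (0, 1, 0, 0), (0, 1, 0, 0), (0, 1, 0, 0), (0, 1, 0, 0),
  (0, 1, 0, 0), (0, 1, 0, 0), (0, 1, 0, 0), (-1, -2, 0, 0), (1, -1, 0, 0), (0, -1, 0, 0), (0, -1, 0, 0),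
  (0, -1, 0, 0), (0, -1, 0, 0), (0, -1, 0, 0), (0, -1, 0, 0), (0, -1, 0, 0), (0, -1, 0, 0), (0, -1, 0, 0),
  (0, -1, 0, 0), (-1, -1, 0, 0), (-1, -1, 0, 0), (-1, -1, 0, 0), (-1, -1, 0, 0), (-1, -1, 0, 0), (-1, -1, 0, 0),
  (-1, -1, 0, 0), (-1, -1, 0, 0), (-1, -1, 0, 0), (-1, -1, 0, 0), (1, 0, 0, 0), (1, 0, 0, 0), (1, 0, 0, 0),
  (1, 0, 0, 0), (1, 0, 0, 0), (1, 0, 0, 0), (1, 0, 0, 0), (1, 0, 0, 0), (1, 0, 0, 0), (1, 0, 0, 0), (0, 0, 0, 0),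
  (0, 0, 0, 0), (0, 0, 0, 0), (0, 0, 0, 0), (0, 0, 0, 0), (0, 0, 0, 0), (0, 0, 0, 0), (0, 0, 0, 0), (0, 0, 0, 0),
  (0, 0, 0, 0), (0, 0, 0, 0), (0, 0, 0, 0), (0, 0, 0, 0), (0, 0, 0, 0), (0, 0, 0, 0), (0, 0, 0, 0), (0, 0, 0, 0),
  (0, 0, 0, 0), (0, 0, 0, 0), (0, 0, 0, 0), (-1, 0, 0, 0), (-1, 0, 0, 0), (-1, 0, 0, 0), (-1, 0, 0, 0),
  (-1, 0, 0, 0), (1, 1, 0, 0), (1, 1, 0, 0), (1, 1, 0, 0), (1, 1, 0, 0), (1, 1, 0, 0), (0, 1, 0, 0), (0, 1, 0, 0),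
  (0, -1, 0, 0), (0, -1, 0, 0), (0, -1, 0, 0), (0, -1, 0, 0), (0, -1, 0, 0), (-1, -1, 0, 0), (1, 0, 0, 0),
  (-1, -1, 0, 0), (1, 0, 0, 0), (0, 0, 0, 0), (0, 0, 0, 0), (0, 0, 0, 0), (0, 0, 0, 0), (0, 0, 0, 0)]

theorem tab3 : tab chevE8 8 c3 = T3 := by decide +kernel

theorem eig3 : okEig (cartanOf chevE8 8) [0, 2] c3 (Ph 3) ![2, 0, -1, 0, 0, 0, 0, 0] := by
  unfold okEig
  decide +kernel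

theorem chk3_7 : chkAll 7 (Ph 3) T3 [(18, 6, (-1, 0, 0, 0)), (30, 6, (-1, 0, 0, 0))] = true := by
  decide +kernel

/-- `E8`, `e = 3`, `p = 7` -/
theorem hasElt3_7 (F : Type) [Field F] [Fintype F] (hF : ¬ 7 ∣ Fintype.card F)
    (he : orderOf ((Fintype.card F : ℕ) : ZMod 7) = 3) : HasElt 7 (chevE8.group F) (Fintype.card F) := by
  have : Fact (Nat.Prime 7) := ⟨by norm_num⟩
  exact hasElt_cell e8T F hF inv_E8 (by norm_num) (by norm_num) he (by simp) eig3 tab3 chk3_7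

theorem chk3_13 : chkAll 13 (Ph 3) T3 [(22, 12, (-1, 0, 0, 0)), (146, 12, (-1, 0, 0, 0))] = true := by
  decide +kernel

/-- `E8`, `e = 3`, `p = 13` -/
theorem hasElt3_13 (F : Type) [Field F] [Fintype F] (hF : ¬ 13 ∣ Fintype.card F)
    (he : orderOf ((Fintype.card F : ℕ) : ZMod 13) = 3) : HasElt 13 (chevE8.group F) (Fintype.card F) := by
  have : Fact (Nat.Prime 13) := ⟨by norm_num⟩
  exact hasElt_cell e8T F hF inv_E8 (by norm_num) (by norm_num) he (by simp) eig3 tab3 chk3_13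

theorem chk3_19 : chkAll 19 (Ph 3) T3 [(68, 18, (-1, 0, 0, 0)), (292, 18, (-1, 0, 0, 0))] = true := by
  decide +kernel

/-- `E8`, `e = 3`, `p = 19` -/
theorem hasElt3_19 (F : Type) [Field F] [Fintype F] (hF : ¬ 19 ∣ Fintype.card F)
    (he : orderOf ((Fintype.card F : ℕ) : ZMod 19) = 3) : HasElt 19 (chevE8.group F) (Fintype.card F) := by
  have : Fact (Nat.Prime 19) := ⟨by norm_num⟩
  exact hasElt_cell e8T F hF inv_E8 (by norm_num) (by norm_num) he (by simp) eig3 tab3 chk3_19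

theorem chk3_31 : chkAll 31 (Ph 3) T3 [(439, 30, (-1, 0, 0, 0)), (521, 30, (-1, 0, 0, 0))] = true := by
  decide +kernel

/-- `E8`, `e = 3`, `p = 31` -/
theorem hasElt3_31 (F : Type) [Field F] [Fintype F] (hF : ¬ 31 ∣ Fintype.card F)
    (he : orderOf ((Fintype.card F : ℕ) : ZMod 31) = 3) : HasElt 31 (chevE8.group F) (Fintype.card F) := by
  have : Fact (Nat.Prime 31) := ⟨by norm_num⟩
  exact hasElt_cell e8T F hF inv_E8 (by norm_num) (by norm_num) he (by simp) eig3 tab3 chk3_31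

theorem chk3_37 : chkAll 37 (Ph 3) T3 [(581, 36, (-1, 0, 0, 0)), (787, 36, (-1, 0, 0, 0))] = true := by
  decide +kernel

/-- `E8`, `e = 3`, `p = 37` -/
theorem hasElt3_37 (F : Type) [Field F] [Fintype F] (hF : ¬ 37 ∣ Fintype.card F)
    (he : orderOf ((Fintype.card F : ℕ) : ZMod 37) = 3) : HasElt 37 (chevE8.group F) (Fintype.card F) := by
  have : Fact (Nat.Prime 37) := ⟨by norm_num⟩
  exact hasElt_cell e8T F hF inv_E8 (by norm_num) (by norm_num) he (by simp) eig3 tab3 chk3_37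

/-- the form for `e = 6` -/
def c6 : Fin 8 → V4 := ![(-1, 1, 0, 0), (0, -1, 0, 0), (0, -1, 0, 0), (1, 0, 0, 0), (0, 1, 0, 0), (-1, 0, 0, 0), (0, 0, 0, 0), (0, 0, 0, 0)]

/-- the table of the root values -/
def T6 : List V4 := [
  (0, 0, 0, 0), (0, 0, 0, 0), (0, 0, 0, 0), (-1, 0, 0, 0), (-1, 1, 0, 0), (0, 1, 0, 0), (0, 0, 0, 0), (0, 0, 0, 0),
  (0, -1, 0, 0), (1, -1, 0, 0), (1, 0, 0, 0), (0, 0, 0, 0), (0, 0, 0, 0), (0, 0, 0, 0), (-1, 1, 0, 0),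
  (-1, 0, 0, 0), (0, 0, 0, 0), (0, 1, 0, 0), (-1, 1, 0, 0), (-1, 1, 0, 0), (-1, 1, 0, 0), (0, -1, 0, 0),
  (0, 0, 0, 0), (-1, 0, 0, 0), (-1, 0, 0, 0), (-1, 0, 0, 0), (1, 0, 0, 0), (0, 0, 0, 0), (0, 0, 0, 0),
  (0, 0, 0, 0), (0, 1, 0, 0), (0, 1, 0, 0), (0, 1, 0, 0), (-1, 1, 0, 0), (-1, 1, 0, 0), (-1, 1, 0, 0),
  (1, -1, 0, 0), (0, -1, 0, 0), (0, -1, 0, 0), (0, -1, 0, 0), (0, 0, 0, 0), (0, 0, 0, 0), (0, 0, 0, 0),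
  (-1, 0, 0, 0), (-1, 0, 0, 0), (-1, 0, 0, 0), (1, 0, 0, 0), (1, 0, 0, 0), (1, 0, 0, 0), (0, 0, 0, 0),
  (0, 0, 0, 0), (0, 0, 0, 0), (0, 1, 0, 0), (0, 1, 0, 0), (0, 1, 0, 0), (-1, 1, 0, 0), (1, -1, 0, 0),
  (1, -1, 0, 0), (1, -1, 0, 0), (0, -1, 0, 0), (0, -1, 0, 0), (0, -1, 0, 0), (0, 0, 0, 0), (0, 0, 0, 0),
  (0, 0, 0, 0), (-1, 0, 0, 0), (1, 0, 0, 0), (1, 0, 0, 0), (1, 0, 0, 0), (0, 0, 0, 0), (0, 1, 0, 0), (1, -1, 0, 0),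
  (1, -1, 0, 0), (1, -1, 0, 0), (0, -1, 0, 0), (0, 0, 0, 0), (1, 0, 0, 0), (1, -1, 0, 0), (0, 0, 0, 0),
  (0, 0, 0, 0), (0, 0, 0, 0), (-1, 0, 0, 0), (-1, 0, 0, 0), (-1, 0, 0, 0), (-1, 1, 0, 0), (-1, 1, 0, 0),
  (-1, 1, 0, 0), (-2, 1, 0, 0), (0, 1, 0, 0), (0, 1, 0, 0), (0, 1, 0, 0), (-1, 1, 0, 0), (-1, 2, 0, 0),
  (0, 0, 0, 0), (0, 0, 0, 0), (0, 0, 0, 0), (-1, 0, 0, 0), (-1, 1, 0, 0), (0, 1, 0, 0), (0, 0, 0, 0), (0, 0, 0, 0),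
  (0, 0, 0, 0), (-1, 0, 0, 0), (-1, 1, 0, 0), (0, 1, 0, 0), (0, -1, 0, 0), (0, -1, 0, 0), (0, -1, 0, 0),
  (-1, -1, 0, 0), (-1, 0, 0, 0), (1, -1, 0, 0), (1, -1, 0, 0), (1, -1, 0, 0), (0, -1, 0, 0), (1, 0, 0, 0),
  (1, 0, 0, 0), (1, 0, 0, 0), (0, 0, 0, 0), (0, 0, 0, 0), (0, 0, 0, 0), (0, 0, 0, 0), (0, 0, 0, 0), (0, 0, 0, 0),
  (-1, 0, 0, 0), (-1, 0, 0, 0), (-1, 0, 0, 0), (0, 1, 0, 0), (-1, 1, 0, 0), (-1, 1, 0, 0), (-1, 1, 0, 0),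
  (1, 0, 0, 0), (1, 1, 0, 0), (0, 1, 0, 0), (0, 1, 0, 0), (0, 1, 0, 0), (0, -1, 0, 0), (1, -1, 0, 0), (1, 0, 0, 0),
  (0, 0, 0, 0), (0, 0, 0, 0), (0, 0, 0, 0), (0, -1, 0, 0), (1, -1, 0, 0), (1, 0, 0, 0), (0, 0, 0, 0), (0, 0, 0, 0),
  (0, 0, 0, 0), (1, -2, 0, 0), (1, -1, 0, 0), (0, -1, 0, 0), (0, -1, 0, 0), (0, -1, 0, 0), (2, -1, 0, 0),
  (1, -1, 0, 0), (1, -1, 0, 0), (1, -1, 0, 0), (1, 0, 0, 0), (1, 0, 0, 0), (1, 0, 0, 0), (0, 0, 0, 0),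
  (0, 0, 0, 0), (0, 0, 0, 0), (-1, 1, 0, 0), (-1, 0, 0, 0), (0, 0, 0, 0), (0, 1, 0, 0), (-1, 1, 0, 0),
  (-1, 1, 0, 0), (-1, 1, 0, 0), (0, -1, 0, 0), (0, 0, 0, 0), (-1, 0, 0, 0), (-1, 0, 0, 0), (-1, 0, 0, 0),
  (1, 0, 0, 0), (0, 0, 0, 0), (0, 0, 0, 0), (0, 0, 0, 0), (0, 1, 0, 0), (0, 1, 0, 0), (0, 1, 0, 0), (-1, 1, 0, 0),
  (-1, 1, 0, 0), (-1, 1, 0, 0), (1, -1, 0, 0), (0, -1, 0, 0), (0, -1, 0, 0), (0, -1, 0, 0), (0, 0, 0, 0),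
  (0, 0, 0, 0), (0, 0, 0, 0), (-1, 0, 0, 0), (-1, 0, 0, 0), (-1, 0, 0, 0), (1, 0, 0, 0), (1, 0, 0, 0),
  (1, 0, 0, 0), (0, 0, 0, 0), (0, 0, 0, 0), (0, 0, 0, 0), (0, 1, 0, 0), (0, 1, 0, 0), (0, 1, 0, 0), (-1, 1, 0, 0),
  (1, -1, 0, 0), (1, -1, 0, 0), (1, -1, 0, 0), (0, -1, 0, 0), (0, -1, 0, 0), (0, -1, 0, 0), (0, 0, 0, 0),
  (0, 0, 0, 0), (0, 0, 0, 0), (-1, 0, 0, 0), (1, 0, 0, 0), (1, 0, 0, 0), (1, 0, 0, 0), (0, 0, 0, 0), (0, 1, 0, 0),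
  (1, -1, 0, 0), (1, -1, 0, 0), (1, -1, 0, 0), (0, -1, 0, 0), (0, 0, 0, 0), (1, 0, 0, 0), (1, -1, 0, 0),
  (0, 0, 0, 0), (0, 0, 0, 0), (0, 0, 0, 0), (-1, 0, 0, 0), (-1, 1, 0, 0), (0, 1, 0, 0), (0, 0, 0, 0), (0, 0, 0, 0),
  (0, -1, 0, 0), (1, -1, 0, 0), (1, 0, 0, 0), (0, 0, 0, 0), (0, 0, 0, 0), (0, 0, 0, 0)]

theorem tab6 : tab chevE8 8 c6 = T6 := by decide +kernel

theorem eig6 : okEig (cartanOf chevE8 8) [1, 2, 3, 4] c6 (Ph 6) ![-1, 1, 1, 0, -1, 0, 0, 0] := by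
  unfold okEig
  decide +kernel

theorem chk6_7 : chkAll 7 (Ph 6) T6 [(19, 6, (-1, 0, 0, 0)), (31, 6, (-1, 0, 0, 0))] = true := by
  decide +kernel

/-- `E8`, `e = 6`, `p = 7` -/
theorem hasElt6_7 (F : Type) [Field F] [Fintype F] (hF : ¬ 7 ∣ Fintype.card F)
    (he : orderOf ((Fintype.card F : ℕ) : ZMod 7) = 6) : HasElt 7 (chevE8.group F) (Fintype.card F) := by
  have : Fact (Nat.Prime 7) := ⟨by norm_num⟩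
  exact hasElt_cell e8T F hF inv_E8 (by norm_num) (by norm_num) he (by simp) eig6 tab6 chk6_7

theorem chk6_13 : chkAll 13 (Ph 6) T6 [(23, 12, (-1, 0, 0, 0)), (147, 12, (-1, 0, 0, 0))] = true := by
  decide +kernel

/-- `E8`, `e = 6`, `p = 13` -/
theorem hasElt6_13 (F : Type) [Field F] [Fintype F] (hF : ¬ 13 ∣ Fintype.card F)
    (he : orderOf ((Fintype.card F : ℕ) : ZMod 13) = 6) : HasElt 13 (chevE8.group F) (Fintype.card F) := by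
  have : Fact (Nat.Prime 13) := ⟨by norm_num⟩
  exact hasElt_cell e8T F hF inv_E8 (by norm_num) (by norm_num) he (by simp) eig6 tab6 chk6_13

theorem chk6_19 : chkAll 19 (Ph 6) T6 [(69, 18, (-1, 0, 0, 0)), (293, 18, (-1, 0, 0, 0))] = true := by
  decide +kernel

/-- `E8`, `e = 6`, `p = 19` -/
theorem hasElt6_19 (F : Type) [Field F] [Fintype F] (hF : ¬ 19 ∣ Fintype.card F)
    (he : orderOf ((Fintype.card F : ℕ) : ZMod 19) = 6) : HasElt 19 (chevE8.group F) (Fintype.card F) := by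
  have : Fact (Nat.Prime 19) := ⟨by norm_num⟩
  exact hasElt_cell e8T F hF inv_E8 (by norm_num) (by norm_num) he (by simp) eig6 tab6 chk6_19

theorem chk6_31 : chkAll 31 (Ph 6) T6 [(440, 30, (-1, 0, 0, 0)), (522, 30, (-1, 0, 0, 0))] = true := by
  decide +kernel

/-- `E8`, `e = 6`, `p = 31` -/
theorem hasElt6_31 (F : Type) [Field F] [Fintype F] (hF : ¬ 31 ∣ Fintype.card F)
    (he : orderOf ((Fintype.card F : ℕ) : ZMod 31) = 6) : HasElt 31 (chevE8.group F) (Fintype.card F) := by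
  have : Fact (Nat.Prime 31) := ⟨by norm_num⟩
  exact hasElt_cell e8T F hF inv_E8 (by norm_num) (by norm_num) he (by simp) eig6 tab6 chk6_31

theorem chk6_37 : chkAll 37 (Ph 6) T6 [(582, 36, (-1, 0, 0, 0)), (788, 36, (-1, 0, 0, 0))] = true := by
  decide +kernel

/-- `E8`, `e = 6`, `p = 37` -/
theorem hasElt6_37 (F : Type) [Field F] [Fintype F] (hF : ¬ 37 ∣ Fintype.card F)
    (he : orderOf ((Fintype.card F : ℕ) : ZMod 37) = 6) : HasElt 37 (chevE8.group F) (Fintype.card F) := by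
  have : Fact (Nat.Prime 37) := ⟨by norm_num⟩
  exact hasElt_cell e8T F hF inv_E8 (by norm_num) (by norm_num) he (by simp) eig6 tab6 chk6_37

/-- the form for `e = 4` -/
def c4 : Fin 8 → V4 := ![(-1, -1, 0, 0), (-1, 0, 0, 0), (1, -1, 0, 0), (1, 1, 0, 0), (-1, 0, 0, 0), (0, 0, 0, 0), (0, 0, 0, 0), (0, 0, 0, 0)]

/-- the table of the root values -/
def T4 : List V4 := [
  (0, 0, 0, 0), (0, 0, 0, 0), (0, 0, 0, 0), (0, 0, 0, 0), (-1, 0, 0, 0), (0, 1, 0, 0), (1, 0, 0, 0), (-1, 1, 0, 0),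
  (0, 0, 0, 0), (1, 1, 0, 0), (0, 1, 0, 0), (0, 1, 0, 0), (0, 1, 0, 0), (0, 1, 0, 0), (0, -1, 0, 0),
  (-1, -1, 0, 0), (0, 0, 0, 0), (-1, 0, 0, 0), (-1, 0, 0, 0), (-1, 0, 0, 0), (-1, 0, 0, 0), (1, -1, 0, 0),
  (0, -1, 0, 0), (0, -1, 0, 0), (0, -1, 0, 0), (0, -1, 0, 0), (1, 0, 0, 0), (1, 0, 0, 0), (1, 0, 0, 0),
  (1, 0, 0, 0), (0, 0, 0, 0), (0, 0, 0, 0), (0, 0, 0, 0), (0, 0, 0, 0), (0, 0, 0, 0), (0, 0, 0, 0), (0, 0, 0, 0),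
  (0, 0, 0, 0), (0, 0, 0, 0), (0, 0, 0, 0), (-1, 0, 0, 0), (-1, 0, 0, 0), (-1, 0, 0, 0), (-1, 0, 0, 0),
  (-1, 0, 0, 0), (-1, 0, 0, 0), (0, 1, 0, 0), (0, 1, 0, 0), (0, 1, 0, 0), (0, 1, 0, 0), (0, 1, 0, 0), (0, 1, 0, 0),
  (-1, 1, 0, 0), (-1, 1, 0, 0), (-1, 1, 0, 0), (-1, 1, 0, 0), (1, 0, 0, 0), (1, 0, 0, 0), (1, 0, 0, 0),
  (1, 0, 0, 0), (1, 0, 0, 0), (1, 0, 0, 0), (0, 0, 0, 0), (0, 0, 0, 0), (0, 0, 0, 0), (0, 0, 0, 0), (1, 1, 0, 0),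
  (1, 1, 0, 0), (1, 1, 0, 0), (1, 1, 0, 0), (0, 1, 0, 0), (0, 1, 0, 0), (0, 1, 0, 0), (0, 1, 0, 0), (0, 1, 0, 0),
  (-1, 1, 0, 0), (0, 2, 0, 0), (1, 1, 0, 0), (0, -1, 0, 0), (0, -1, 0, 0), (0, -1, 0, 0), (0, -1, 0, 0),
  (0, -1, 0, 0), (0, -1, 0, 0), (-1, -1, 0, 0), (-1, -1, 0, 0), (-1, -1, 0, 0), (-1, -1, 0, 0), (0, 0, 0, 0),
  (0, 0, 0, 0), (0, 0, 0, 0), (0, 0, 0, 0), (-1, 0, 0, 0), (1, -1, 0, 0), (1, -1, 0, 0), (1, -1, 0, 0),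
  (1, -1, 0, 0), (0, -1, 0, 0), (1, 0, 0, 0), (-1, 0, 0, 0), (-1, 0, 0, 0), (-1, 0, 0, 0), (-1, 0, 0, 0),
  (-2, 0, 0, 0), (-1, 1, 0, 0), (0, -1, 0, 0), (0, -1, 0, 0), (0, -1, 0, 0), (0, -1, 0, 0), (-1, -1, 0, 0),
  (1, 0, 0, 0), (1, 0, 0, 0), (1, 0, 0, 0), (1, 0, 0, 0), (0, 0, 0, 0), (0, 0, 0, 0), (0, 0, 0, 0), (0, 0, 0, 0),
  (0, 0, 0, 0), (0, 0, 0, 0), (0, 0, 0, 0), (0, 0, 0, 0), (0, 0, 0, 0), (0, 0, 0, 0), (0, 0, 0, 0), (0, 0, 0, 0),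
  (-1, 0, 0, 0), (-1, 0, 0, 0), (-1, 0, 0, 0), (-1, 0, 0, 0), (1, 1, 0, 0), (0, 1, 0, 0), (0, 1, 0, 0),
  (0, 1, 0, 0), (0, 1, 0, 0), (1, -1, 0, 0), (2, 0, 0, 0), (1, 0, 0, 0), (1, 0, 0, 0), (1, 0, 0, 0), (1, 0, 0, 0),
  (-1, 0, 0, 0), (0, 1, 0, 0), (-1, 1, 0, 0), (-1, 1, 0, 0), (-1, 1, 0, 0), (-1, 1, 0, 0), (1, 0, 0, 0),
  (0, 0, 0, 0), (0, 0, 0, 0), (0, 0, 0, 0), (0, 0, 0, 0), (1, 1, 0, 0), (1, 1, 0, 0), (1, 1, 0, 0), (1, 1, 0, 0),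
  (0, 1, 0, 0), (0, 1, 0, 0), (0, 1, 0, 0), (0, 1, 0, 0), (0, 1, 0, 0), (0, 1, 0, 0), (-1, -1, 0, 0),
  (0, -2, 0, 0), (1, -1, 0, 0), (0, -1, 0, 0), (0, -1, 0, 0), (0, -1, 0, 0), (0, -1, 0, 0), (0, -1, 0, 0),
  (-1, -1, 0, 0), (-1, -1, 0, 0), (-1, -1, 0, 0), (-1, -1, 0, 0), (0, 0, 0, 0), (0, 0, 0, 0), (0, 0, 0, 0),
  (0, 0, 0, 0), (-1, 0, 0, 0), (-1, 0, 0, 0), (-1, 0, 0, 0), (-1, 0, 0, 0), (-1, 0, 0, 0), (-1, 0, 0, 0),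
  (1, -1, 0, 0), (1, -1, 0, 0), (1, -1, 0, 0), (1, -1, 0, 0), (0, -1, 0, 0), (0, -1, 0, 0), (0, -1, 0, 0),
  (0, -1, 0, 0), (0, -1, 0, 0), (0, -1, 0, 0), (1, 0, 0, 0), (1, 0, 0, 0), (1, 0, 0, 0), (1, 0, 0, 0),
  (1, 0, 0, 0), (1, 0, 0, 0), (0, 0, 0, 0), (0, 0, 0, 0), (0, 0, 0, 0), (0, 0, 0, 0), (0, 0, 0, 0), (0, 0, 0, 0),
  (0, 0, 0, 0), (0, 0, 0, 0), (0, 0, 0, 0), (0, 0, 0, 0), (-1, 0, 0, 0), (-1, 0, 0, 0), (-1, 0, 0, 0),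
  (-1, 0, 0, 0), (0, 1, 0, 0), (0, 1, 0, 0), (0, 1, 0, 0), (0, 1, 0, 0), (-1, 1, 0, 0), (1, 0, 0, 0), (1, 0, 0, 0),
  (1, 0, 0, 0), (1, 0, 0, 0), (0, 0, 0, 0), (1, 1, 0, 0), (0, 1, 0, 0), (0, -1, 0, 0), (0, -1, 0, 0),
  (0, -1, 0, 0), (0, -1, 0, 0), (-1, -1, 0, 0), (0, 0, 0, 0), (1, -1, 0, 0), (-1, 0, 0, 0), (0, -1, 0, 0),
  (1, 0, 0, 0), (0, 0, 0, 0), (0, 0, 0, 0), (0, 0, 0, 0), (0, 0, 0, 0)]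

theorem tab4 : tab chevE8 8 c4 = T4 := by decide +kernel

theorem eig4 : okEig (cartanOf chevE8 8) [0, 2, 3] c4 (Ph 4) ![1, 0, 1, -1, 0, 0, 0, 0] := by
  unfold okEig
  decide +kernel

theorem chk4_13 : chkAll 13 (Ph 4) T4 [(70, 12, (-1, 0, 0, 0)), (99, 12, (-1, 0, 0, 0))] = true := by
  decide +kernel

/-- `E8`, `e = 4`, `p = 13` -/
theorem hasElt4_13 (F : Type) [Field F] [Fintype F] (hF : ¬ 13 ∣ Fintype.card F)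
    (he : orderOf ((Fintype.card F : ℕ) : ZMod 13) = 4) : HasElt 13 (chevE8.group F) (Fintype.card F) := by
  have : Fact (Nat.Prime 13) := ⟨by norm_num⟩
  exact hasElt_cell e8T F hF inv_E8 (by norm_num) (by norm_num) he (by simp) eig4 tab4 chk4_13

theorem chk4_17 : chkAll 17 (Ph 4) T4 [(38, 16, (-1, 0, 0, 0)), (251, 16, (-1, 0, 0, 0))] = true := by
  decide +kernel

/-- `E8`, `e = 4`, `p = 17` -/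
theorem hasElt4_17 (F : Type) [Field F] [Fintype F] (hF : ¬ 17 ∣ Fintype.card F)
    (he : orderOf ((Fintype.card F : ℕ) : ZMod 17) = 4) : HasElt 17 (chevE8.group F) (Fintype.card F) := by
  have : Fact (Nat.Prime 17) := ⟨by norm_num⟩
  exact hasElt_cell e8T F hF inv_E8 (by norm_num) (by norm_num) he (by simp) eig4 tab4 chk4_17

theorem chk4_29 : chkAll 29 (Ph 4) T4 [(41, 28, (-1, 0, 0, 0)), (800, 28, (-1, 0, 0, 0))] = true := by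
  decide +kernel

/-- `E8`, `e = 4`, `p = 29` -/
theorem hasElt4_29 (F : Type) [Field F] [Fintype F] (hF : ¬ 29 ∣ Fintype.card F)
    (he : orderOf ((Fintype.card F : ℕ) : ZMod 29) = 4) : HasElt 29 (chevE8.group F) (Fintype.card F) := by
  have : Fact (Nat.Prime 29) := ⟨by norm_num⟩
  exact hasElt_cell e8T F hF inv_E8 (by norm_num) (by norm_num) he (by simp) eig4 tab4 chk4_29

theorem chk4_37 : chkAll 37 (Ph 4) T4 [(117, 36, (-1, 0, 0, 0)), (1252, 36, (-1, 0, 0, 0))] = true := by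
  decide +kernel

/-- `E8`, `e = 4`, `p = 37` -/
theorem hasElt4_37 (F : Type) [Field F] [Fintype F] (hF : ¬ 37 ∣ Fintype.card F)
    (he : orderOf ((Fintype.card F : ℕ) : ZMod 37) = 4) : HasElt 37 (chevE8.group F) (Fintype.card F) := by
  have : Fact (Nat.Prime 37) := ⟨by norm_num⟩
  exact hasElt_cell e8T F hF inv_E8 (by norm_num) (by norm_num) he (by simp) eig4 tab4 chk4_37

theorem chk4_41 : chkAll 41 (Ph 4) T4 [(378, 40, (-1, 0, 0, 0)), (1303, 40, (-1, 0, 0, 0))] = true := by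
  decide +kernel

/-- `E8`, `e = 4`, `p = 41` -/
theorem hasElt4_41 (F : Type) [Field F] [Fintype F] (hF : ¬ 41 ∣ Fintype.card F)
    (he : orderOf ((Fintype.card F : ℕ) : ZMod 41) = 4) : HasElt 41 (chevE8.group F) (Fintype.card F) := by
  have : Fact (Nat.Prime 41) := ⟨by norm_num⟩
  exact hasElt_cell e8T F hF inv_E8 (by norm_num) (by norm_num) he (by simp) eig4 tab4 chk4_41

theorem chk4_53 : chkAll 53 (Ph 4) T4 [(500, 52, (-1, 0, 0, 0)), (2309, 52, (-1, 0, 0, 0))] = true := by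
  decide +kernel

/-- `E8`, `e = 4`, `p = 53` -/
theorem hasElt4_53 (F : Type) [Field F] [Fintype F] (hF : ¬ 53 ∣ Fintype.card F)
    (he : orderOf ((Fintype.card F : ℕ) : ZMod 53) = 4) : HasElt 53 (chevE8.group F) (Fintype.card F) := by
  have : Fact (Nat.Prime 53) := ⟨by norm_num⟩
  exact hasElt_cell e8T F hF inv_E8 (by norm_num) (by norm_num) he (by simp) eig4 tab4 chk4_53

/-- the form for `e = 5` -/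
def c5 : Fin 8 → V4 := ![(0, -1, 1, 0), (0, 1, 1, 1), (0, 0, -1, 1), (-1, -1, -1, -2), (2, 1, 1, 1), (-1, 0, 0, 0), (0, 0, 0, 0), (0, 0, 0, 0)]

/-- the table of the root values -/
def T5 : List V4 := [
  (0, 0, 0, 0), (0, 0, 0, 0), (0, 0, 0, 0), (-1, 0, 0, 0), (1, 1, 1, 1), (0, 0, 0, -1), (0, 0, -1, 0),
  (0, 1, 1, 0), (0, 1, 0, 1), (-1, 0, -1, -1), (1, 1, 0, 0), (0, 1, 0, 0), (0, 1, 0, 0), (0, 1, 0, 0),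
  (0, -1, 0, 0), (0, 0, 1, 1), (-1, -1, 0, -1), (1, 0, 1, 0), (0, 0, 1, 0), (0, 0, 1, 0), (0, 0, 1, 0),
  (-1, -1, -1, 0), (1, 0, 0, 1), (0, 0, 0, 1), (0, 0, 0, 1), (0, 0, 0, 1), (0, -1, -1, -1), (-1, -1, -1, -1),
  (-1, -1, -1, -1), (-1, -1, -1, -1), (1, 0, 0, 0), (1, 0, 0, 0), (1, 0, 0, 0), (0, 0, 0, 0), (0, 0, 0, 0),
  (0, 0, 0, 0), (0, 0, 0, 0), (-1, 0, 0, 0), (-1, 0, 0, 0), (-1, 0, 0, 0), (1, 1, 1, 1), (1, 1, 1, 1),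
  (1, 1, 1, 1), (0, 1, 1, 1), (0, 1, 1, 1), (0, 1, 1, 1), (0, 0, 0, -1), (0, 0, 0, -1), (0, 0, 0, -1),
  (-1, 0, 0, -1), (-1, 0, 0, -1), (-1, 0, 0, -1), (1, 1, 1, 0), (1, 1, 1, 0), (1, 1, 1, 0), (0, 1, 1, 0),
  (0, 0, -1, 0), (0, 0, -1, 0), (0, 0, -1, 0), (-1, 0, -1, 0), (-1, 0, -1, 0), (-1, 0, -1, 0), (1, 1, 0, 1),
  (1, 1, 0, 1), (1, 1, 0, 1), (0, 1, 0, 1), (0, 0, -1, -1), (0, 0, -1, -1), (0, 0, -1, -1), (-1, 0, -1, -1),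
  (1, 1, 0, 0), (0, 1, 0, 0), (0, 1, 0, 0), (0, 1, 0, 0), (-1, 1, 0, 0), (1, 2, 1, 1), (0, 1, 0, -1),
  (0, 1, -1, 0), (0, -1, 0, 0), (0, -1, 0, 0), (0, -1, 0, 0), (-1, -1, 0, 0), (-1, -1, 0, 0), (-1, -1, 0, 0),
  (1, 0, 1, 1), (1, 0, 1, 1), (1, 0, 1, 1), (0, 0, 1, 1), (0, -1, 0, -1), (0, -1, 0, -1), (0, -1, 0, -1),
  (-1, -1, 0, -1), (1, 0, 1, 0), (0, -1, -1, 0), (0, -1, -1, 0), (0, -1, -1, 0), (-1, -1, -1, 0), (1, 0, 0, 1),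
  (0, -1, -1, -1), (0, 0, 1, 0), (0, 0, 1, 0), (0, 0, 1, 0), (-1, 0, 1, 0), (1, 1, 2, 1), (0, 0, 1, -1),
  (0, 0, 0, 1), (0, 0, 0, 1), (0, 0, 0, 1), (-1, 0, 0, 1), (1, 1, 1, 2), (-1, -1, -1, -1), (-1, -1, -1, -1),
  (-1, -1, -1, -1), (-2, -1, -1, -1), (1, 0, 0, 0), (1, 0, 0, 0), (1, 0, 0, 0), (0, 0, 0, 0), (0, 0, 0, 0),
  (0, 0, 0, 0), (0, 0, 0, 0), (0, 0, 0, 0), (0, 0, 0, 0), (-1, 0, 0, 0), (-1, 0, 0, 0), (-1, 0, 0, 0),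
  (2, 1, 1, 1), (1, 1, 1, 1), (1, 1, 1, 1), (1, 1, 1, 1), (-1, -1, -1, -2), (1, 0, 0, -1), (0, 0, 0, -1),
  (0, 0, 0, -1), (0, 0, 0, -1), (0, 0, -1, 1), (-1, -1, -2, -1), (1, 0, -1, 0), (0, 0, -1, 0), (0, 0, -1, 0),
  (0, 0, -1, 0), (0, 1, 1, 1), (-1, 0, 0, -1), (1, 1, 1, 0), (0, 1, 1, 0), (0, 1, 1, 0), (0, 1, 1, 0),
  (-1, 0, -1, 0), (1, 1, 0, 1), (0, 1, 0, 1), (0, 1, 0, 1), (0, 1, 0, 1), (0, 0, -1, -1), (-1, 0, -1, -1),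
  (-1, 0, -1, -1), (-1, 0, -1, -1), (1, 1, 0, 0), (1, 1, 0, 0), (1, 1, 0, 0), (0, 1, 0, 0), (0, 1, 0, 0),
  (0, 1, 0, 0), (0, -1, 1, 0), (0, -1, 0, 1), (-1, -2, -1, -1), (1, -1, 0, 0), (0, -1, 0, 0), (0, -1, 0, 0),
  (0, -1, 0, 0), (-1, -1, 0, 0), (1, 0, 1, 1), (0, 0, 1, 1), (0, 0, 1, 1), (0, 0, 1, 1), (0, -1, 0, -1),
  (-1, -1, 0, -1), (-1, -1, 0, -1), (-1, -1, 0, -1), (1, 0, 1, 0), (1, 0, 1, 0), (1, 0, 1, 0), (0, 0, 1, 0),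
  (0, 0, 1, 0), (0, 0, 1, 0), (0, -1, -1, 0), (-1, -1, -1, 0), (-1, -1, -1, 0), (-1, -1, -1, 0), (1, 0, 0, 1),
  (1, 0, 0, 1), (1, 0, 0, 1), (0, 0, 0, 1), (0, 0, 0, 1), (0, 0, 0, 1), (0, -1, -1, -1), (0, -1, -1, -1),
  (0, -1, -1, -1), (-1, -1, -1, -1), (-1, -1, -1, -1), (-1, -1, -1, -1), (1, 0, 0, 0), (1, 0, 0, 0), (1, 0, 0, 0),
  (0, 0, 0, 0), (0, 0, 0, 0), (0, 0, 0, 0), (0, 0, 0, 0), (-1, 0, 0, 0), (-1, 0, 0, 0), (-1, 0, 0, 0),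
  (1, 1, 1, 1), (1, 1, 1, 1), (1, 1, 1, 1), (0, 1, 1, 1), (0, 0, 0, -1), (0, 0, 0, -1), (0, 0, 0, -1),
  (-1, 0, 0, -1), (1, 1, 1, 0), (0, 0, -1, 0), (0, 0, -1, 0), (0, 0, -1, 0), (-1, 0, -1, 0), (1, 1, 0, 1),
  (0, 0, -1, -1), (0, 1, 0, 0), (0, -1, 0, 0), (0, -1, 0, 0), (0, -1, 0, 0), (-1, -1, 0, 0), (1, 0, 1, 1),
  (0, -1, 0, -1), (0, -1, -1, 0), (0, 0, 1, 0), (0, 0, 0, 1), (-1, -1, -1, -1), (1, 0, 0, 0), (0, 0, 0, 0),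
  (0, 0, 0, 0), (0, 0, 0, 0)]

theorem tab5 : tab chevE8 8 c5 = T5 := by decide +kernel

theorem eig5 : okEig (cartanOf chevE8 8) [0, 2, 3, 4] c5 (Ph 5) ![0, -1, -1, 2, -1, 0, 0, 0] := by
  unfold okEig
  decide +kernel

theorem chk5_11 : chkAll 11 (Ph 5) T5 [(3, 10, (-1, 0, 0, 0)), (9, 10, (-1, 0, 0, 0)), (27, 10, (-1, 0, 0, 0)), (81, 10, (-1, 0, 0, 0))] = true := by
  decide +kernel

/-- `E8`, `e = 5`, `p = 11` -/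
theorem hasElt5_11 (F : Type) [Field F] [Fintype F] (hF : ¬ 11 ∣ Fintype.card F)
    (he : orderOf ((Fintype.card F : ℕ) : ZMod 11) = 5) : HasElt 11 (chevE8.group F) (Fintype.card F) := by
  have : Fact (Nat.Prime 11) := ⟨by norm_num⟩
  exact hasElt_cell e8T F hF inv_E8 (by norm_num) (by norm_num) he (by simp) eig5 tab5 chk5_11

/-- the form for `e = 10` -/
def c10 : Fin 8 → V4 := ![(-1, 1, 0, 1), (0, -1, 0, 0), (0, -1, 0, 0), (0, 1, -1, 0), (0, 0, 1, -1), (1, -1, 1, 0), (0, 1, -1, 1), (-1, 0, 0, 0)]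

/-- the table of the root values -/
def T10 : List V4 := [
  (0, 0, 0, 0), (-1, 0, 0, 0), (-1, 1, -1, 1), (0, 0, 0, 1), (0, 0, 1, 0), (0, 1, 0, 0), (0, 0, 0, 0),
  (0, 0, 0, 0), (0, -1, 0, 0), (0, 0, -1, 0), (0, 0, 0, -1), (1, -1, 1, -1), (1, 0, 0, 0), (0, 0, 0, 0),
  (-1, 1, 0, 1), (-1, 0, 0, 1), (-1, 1, -1, 1), (-1, 1, 0, 0), (0, 0, 1, 0), (0, 1, 0, 1), (-1, 1, 0, 1),
  (-1, 0, -1, 1), (-1, 0, 0, 0), (0, -1, 1, 0), (0, 0, 0, 1), (-1, 0, 0, 1), (-1, 1, -1, 0), (0, 0, 0, 0),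
  (0, 1, -1, 1), (-1, 1, -1, 1), (0, 0, 1, -1), (0, 1, 0, 0), (-1, 1, 0, 0), (1, 0, 1, 0), (0, 0, 1, 0),
  (0, 1, 0, 1), (-1, 0, -1, 0), (0, -1, 0, 0), (0, 0, -1, 1), (-1, 0, -1, 1), (0, -1, 1, -1), (0, 0, 0, 0),
  (-1, 0, 0, 0), (1, -1, 1, 0), (0, -1, 1, 0), (0, 0, 0, 1), (0, 0, 0, -1), (0, 1, -1, 0), (-1, 1, -1, 0),
  (1, 0, 0, 0), (0, 0, 0, 0), (0, 1, -1, 1), (1, 0, 1, -1), (0, 0, 1, -1), (0, 1, 0, 0), (1, 0, 1, 0),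
  (0, -1, 0, -1), (0, 0, -1, 0), (-1, 0, -1, 0), (1, -1, 0, 0), (0, -1, 0, 0), (0, 0, -1, 1), (1, -1, 1, -1),
  (0, -1, 1, -1), (0, 0, 0, 0), (1, -1, 1, 0), (1, 0, 0, -1), (0, 0, 0, -1), (0, 1, -1, 0), (1, 0, 0, 0),
  (1, 0, 1, -1), (1, -1, 0, -1), (0, -1, 0, -1), (0, 0, -1, 0), (1, -1, 0, 0), (1, -1, 1, -1), (1, 0, 0, -1),
  (1, -1, 0, -1), (-1, 0, 0, 0), (-1, 1, -1, 1), (-2, 1, -1, 1), (0, 0, 0, 1), (-1, 0, 0, 1), (-1, 1, -1, 2),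
  (0, 0, 1, 0), (-1, 0, 1, 0), (-1, 1, 0, 1), (0, 0, 1, 1), (0, 1, 0, 0), (-1, 1, 0, 0), (-1, 2, -1, 1),
  (0, 1, 0, 1), (0, 1, 1, 0), (0, 0, 0, 0), (-1, 0, 0, 0), (-1, 1, -1, 1), (0, 0, 0, 1), (0, 0, 1, 0),
  (0, 1, 0, 0), (0, 0, 0, 0), (-1, 0, 0, 0), (-1, 1, -1, 1), (0, 0, 0, 1), (0, 0, 1, 0), (0, 1, 0, 0),
  (0, -1, 0, 0), (-1, -1, 0, 0), (-1, 0, -1, 1), (0, -1, 0, 1), (0, -1, 1, 0), (0, 0, -1, 0), (-1, 0, -1, 0),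
  (-1, 1, -2, 1), (0, 0, -1, 1), (0, 0, 0, -1), (-1, 0, 0, -1), (-1, 1, -1, 0), (1, -1, 1, -1), (0, -1, 1, -1),
  (1, 0, 0, 0), (-1, 0, 0, 0), (0, 1, -1, 1), (-1, 1, -1, 1), (1, -1, 1, 0), (1, 0, 0, 1), (0, 0, 0, 1),
  (0, 0, 1, -1), (1, -1, 2, -1), (1, 0, 1, 0), (0, 0, 1, 0), (0, 1, -1, 0), (0, 1, 0, -1), (1, 0, 1, -1),
  (1, 1, 0, 0), (0, 1, 0, 0), (0, -1, 0, 0), (0, 0, -1, 0), (0, 0, 0, -1), (1, -1, 1, -1), (1, 0, 0, 0),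
  (0, 0, 0, 0), (0, -1, 0, 0), (0, 0, -1, 0), (0, 0, 0, -1), (1, -1, 1, -1), (1, 0, 0, 0), (0, 0, 0, 0),
  (0, -1, -1, 0), (0, -1, 0, -1), (1, -2, 1, -1), (1, -1, 0, 0), (0, -1, 0, 0), (0, 0, -1, -1), (1, -1, 0, -1),
  (1, 0, -1, 0), (0, 0, -1, 0), (1, -1, 1, -2), (1, 0, 0, -1), (0, 0, 0, -1), (2, -1, 1, -1), (1, -1, 1, -1),
  (1, 0, 0, 0), (-1, 1, 0, 1), (-1, 0, 0, 1), (-1, 1, -1, 1), (-1, 1, 0, 0), (0, 0, 1, 0), (0, 1, 0, 1),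
  (-1, 1, 0, 1), (-1, 0, -1, 1), (-1, 0, 0, 0), (0, -1, 1, 0), (0, 0, 0, 1), (-1, 0, 0, 1), (-1, 1, -1, 0),
  (0, 0, 0, 0), (0, 1, -1, 1), (-1, 1, -1, 1), (0, 0, 1, -1), (0, 1, 0, 0), (-1, 1, 0, 0), (1, 0, 1, 0),
  (0, 0, 1, 0), (0, 1, 0, 1), (-1, 0, -1, 0), (0, -1, 0, 0), (0, 0, -1, 1), (-1, 0, -1, 1), (0, -1, 1, -1),
  (0, 0, 0, 0), (-1, 0, 0, 0), (1, -1, 1, 0), (0, -1, 1, 0), (0, 0, 0, 1), (0, 0, 0, -1), (0, 1, -1, 0),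
  (-1, 1, -1, 0), (1, 0, 0, 0), (0, 0, 0, 0), (0, 1, -1, 1), (1, 0, 1, -1), (0, 0, 1, -1), (0, 1, 0, 0),
  (1, 0, 1, 0), (0, -1, 0, -1), (0, 0, -1, 0), (-1, 0, -1, 0), (1, -1, 0, 0), (0, -1, 0, 0), (0, 0, -1, 1),
  (1, -1, 1, -1), (0, -1, 1, -1), (0, 0, 0, 0), (1, -1, 1, 0), (1, 0, 0, -1), (0, 0, 0, -1), (0, 1, -1, 0),
  (1, 0, 0, 0), (1, 0, 1, -1), (1, -1, 0, -1), (0, -1, 0, -1), (0, 0, -1, 0), (1, -1, 0, 0), (1, -1, 1, -1),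
  (1, 0, 0, -1), (1, -1, 0, -1), (0, 0, 0, 0), (-1, 0, 0, 0), (-1, 1, -1, 1), (0, 0, 0, 1), (0, 0, 1, 0),
  (0, 1, 0, 0), (0, 0, 0, 0), (0, 0, 0, 0), (0, -1, 0, 0), (0, 0, -1, 0), (0, 0, 0, -1), (1, -1, 1, -1),
  (1, 0, 0, 0), (0, 0, 0, 0)]

theorem tab10 : tab chevE8 8 c10 = T10 := by decide +kernel

theorem eig10 : okEig (cartanOf chevE8 8) [1, 2, 3, 4, 5, 6] c10 (Ph 10) ![-1, 0, 0, 0, 1, 0, -1, 0] := by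
  unfold okEig
  decide +kernel

theorem chk10_11 : chkAll 11 (Ph 10) T10 [(40, 10, (-1, 0, 0, 0)), (94, 10, (-1, 0, 0, 0)), (112, 10, (-1, 0, 0, 0)), (118, 10, (-1, 0, 0, 0))] = true := by
  decide +kernel

/-- `E8`, `e = 10`, `p = 11` -/
theorem hasElt10_11 (F : Type) [Field F] [Fintype F] (hF : ¬ 11 ∣ Fintype.card F)
    (he : orderOf ((Fintype.card F : ℕ) : ZMod 11) = 10) : HasElt 11 (chevE8.group F) (Fintype.card F) := by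
  have : Fact (Nat.Prime 11) := ⟨by norm_num⟩
  exact hasElt_cell e8T F hF inv_E8 (by norm_num) (by norm_num) he (by simp) eig10 tab10 chk10_11

/-- the form for `e = 8` -/
def c8 : Fin 8 → V4 := ![(0, -1, 0, -1), (0, 0, -1, -1), (1, 0, -1, 0), (0, 1, 1, 0), (0, 0, 1, 1), (-1, -1, -1, 0), (0, 0, 0, 0), (0, 0, 0, 0)]

/-- the table of the root values -/
def T8 : List V4 := [
  (0, 0, 0, 0), (0, 0, 0, 0), (0, 0, 0, 0), (-1, -1, -1, 0), (-1, -1, 0, 1), (-1, 0, 1, 1), (0, 0, 0, 1),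
  (-1, 0, 0, 0), (0, 0, -1, 0), (0, 1, 0, 0), (0, 1, 1, 1), (-1, 0, 0, 1), (-1, 0, 0, 1), (-1, 0, 0, 1),
  (0, -1, 0, 0), (0, -1, -1, -1), (0, 0, 0, -1), (0, 0, 1, 0), (-1, -1, 0, 0), (-1, -1, 0, 0), (-1, -1, 0, 0),
  (1, 0, -1, -1), (1, 0, 0, 0), (0, -1, -1, 0), (0, -1, -1, 0), (0, -1, -1, 0), (1, 1, 1, 0), (0, 0, 0, 0),
  (0, 0, 0, 0), (0, 0, 0, 0), (0, 0, 1, 1), (0, 0, 1, 1), (0, 0, 1, 1), (-1, -1, 0, 1), (-1, -1, 0, 1),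
  (-1, -1, 0, 1), (1, 1, 0, -1), (0, 0, -1, -1), (0, 0, -1, -1), (0, 0, -1, -1), (0, 0, 0, 0), (0, 0, 0, 0),
  (0, 0, 0, 0), (-1, -1, -1, 0), (-1, -1, -1, 0), (-1, -1, -1, 0), (0, 1, 1, 0), (0, 1, 1, 0), (0, 1, 1, 0),
  (-1, 0, 0, 0), (-1, 0, 0, 0), (-1, 0, 0, 0), (-1, 0, 1, 1), (-1, 0, 1, 1), (-1, 0, 1, 1), (-2, -1, 0, 1),
  (1, 1, 0, 0), (1, 1, 0, 0), (1, 1, 0, 0), (0, 0, -1, 0), (0, 0, -1, 0), (0, 0, -1, 0), (0, 0, 0, 1),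
  (0, 0, 0, 1), (0, 0, 0, 1), (-1, -1, -1, 1), (0, 1, 1, 1), (0, 1, 1, 1), (0, 1, 1, 1), (-1, 0, 0, 1),
  (-1, 0, 1, 2), (0, 1, 0, 0), (0, 1, 0, 0), (0, 1, 0, 0), (-1, 0, -1, 0), (-1, 0, 0, 1), (-1, 1, 1, 1),
  (0, 1, 0, 1), (1, 0, 0, -1), (1, 0, 0, -1), (1, 0, 0, -1), (0, -1, -1, -1), (0, -1, -1, -1), (0, -1, -1, -1),
  (0, -1, 0, 0), (0, -1, 0, 0), (0, -1, 0, 0), (-1, -2, -1, 0), (0, 0, 1, 0), (0, 0, 1, 0), (0, 0, 1, 0),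
  (-1, -1, 0, 0), (-1, -1, 1, 1), (1, 0, 0, 0), (1, 0, 0, 0), (1, 0, 0, 0), (0, -1, -1, 0), (0, -1, 0, 1),
  (0, 0, 1, 1), (0, 0, 0, -1), (0, 0, 0, -1), (0, 0, 0, -1), (-1, -1, -1, -1), (-1, -1, 0, 0), (-1, 0, 1, 0),
  (1, 0, -1, -1), (1, 0, -1, -1), (1, 0, -1, -1), (0, -1, -2, -1), (0, -1, -1, 0), (1, 1, 0, -1), (1, 1, 0, -1),
  (1, 1, 0, -1), (0, 0, -1, -1), (1, 1, 1, 0), (1, 1, 1, 0), (1, 1, 1, 0), (0, 0, 0, 0), (0, 0, 0, 0),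
  (0, 0, 0, 0), (0, 0, 0, 0), (0, 0, 0, 0), (0, 0, 0, 0), (-1, -1, -1, 0), (-1, -1, -1, 0), (-1, -1, -1, 0),
  (0, 0, 1, 1), (-1, -1, 0, 1), (-1, -1, 0, 1), (-1, -1, 0, 1), (0, 1, 1, 0), (0, 1, 2, 1), (-1, 0, 1, 1),
  (-1, 0, 1, 1), (-1, 0, 1, 1), (1, 0, -1, 0), (1, 1, 0, 0), (1, 1, 1, 1), (0, 0, 0, 1), (0, 0, 0, 1),
  (0, 0, 0, 1), (0, 0, -1, -1), (0, 1, 0, -1), (0, 1, 1, 0), (-1, 0, 0, 0), (-1, 0, 0, 0), (-1, 0, 0, 0),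
  (1, 1, -1, -1), (1, 1, 0, 0), (0, 0, -1, 0), (0, 0, -1, 0), (0, 0, -1, 0), (1, 2, 1, 0), (0, 1, 0, 0),
  (0, 1, 0, 0), (0, 1, 0, 0), (0, 1, 1, 1), (0, 1, 1, 1), (0, 1, 1, 1), (-1, 0, 0, 1), (-1, 0, 0, 1),
  (-1, 0, 0, 1), (0, -1, 0, -1), (1, -1, -1, -1), (1, 0, 0, -1), (1, 0, 1, 0), (0, -1, 0, 0), (0, -1, 0, 0),
  (0, -1, 0, 0), (1, 0, -1, -2), (1, 0, 0, -1), (0, -1, -1, -1), (0, -1, -1, -1), (0, -1, -1, -1), (1, 1, 1, -1),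
  (0, 0, 0, -1), (0, 0, 0, -1), (0, 0, 0, -1), (0, 0, 1, 0), (0, 0, 1, 0), (0, 0, 1, 0), (-1, -1, 0, 0),
  (-1, -1, 0, 0), (-1, -1, 0, 0), (2, 1, 0, -1), (1, 0, -1, -1), (1, 0, -1, -1), (1, 0, -1, -1), (1, 0, 0, 0),
  (1, 0, 0, 0), (1, 0, 0, 0), (0, -1, -1, 0), (0, -1, -1, 0), (0, -1, -1, 0), (1, 1, 1, 0), (1, 1, 1, 0),
  (1, 1, 1, 0), (0, 0, 0, 0), (0, 0, 0, 0), (0, 0, 0, 0), (0, 0, 1, 1), (0, 0, 1, 1), (0, 0, 1, 1), (-1, -1, 0, 1),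
  (1, 1, 0, -1), (1, 1, 0, -1), (1, 1, 0, -1), (0, 0, -1, -1), (0, 0, -1, -1), (0, 0, -1, -1), (0, 0, 0, 0),
  (0, 0, 0, 0), (0, 0, 0, 0), (-1, -1, -1, 0), (0, 1, 1, 0), (0, 1, 1, 0), (0, 1, 1, 0), (-1, 0, 0, 0),
  (-1, 0, 1, 1), (1, 1, 0, 0), (1, 1, 0, 0), (1, 1, 0, 0), (0, 0, -1, 0), (0, 0, 0, 1), (0, 1, 1, 1), (0, 1, 0, 0),
  (1, 0, 0, -1), (1, 0, 0, -1), (1, 0, 0, -1), (0, -1, -1, -1), (0, -1, 0, 0), (0, 0, 1, 0), (1, 0, 0, 0),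
  (0, 0, 0, -1), (1, 0, -1, -1), (1, 1, 0, -1), (1, 1, 1, 0), (0, 0, 0, 0), (0, 0, 0, 0), (0, 0, 0, 0)]

theorem tab8 : tab chevE8 8 c8 = T8 := by decide +kernel

theorem eig8 : okEig (cartanOf chevE8 8) [0, 1, 2, 3, 4] c8 (Ph 8) ![1, 1, 0, 0, -1, 0, 0, 0] := by
  unfold okEig
  decide +kernel

theorem chk8_17 : chkAll 17 (Ph 8) T8 [(110, 12, (-1, -1, -1, 0)), (134, 14, (-1, -1, -1, 0)), (155, 8, (-1, -1, -1, 0)), (179, 15, (-1, -1, -1, 0))] = true := by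
  decide +kernel

/-- `E8`, `e = 8`, `p = 17` -/
theorem hasElt8_17 (F : Type) [Field F] [Fintype F] (hF : ¬ 17 ∣ Fintype.card F)
    (he : orderOf ((Fintype.card F : ℕ) : ZMod 17) = 8) : HasElt 17 (chevE8.group F) (Fintype.card F) := by
  have : Fact (Nat.Prime 17) := ⟨by norm_num⟩
  exact hasElt_cell e8T F hF inv_E8 (by norm_num) (by norm_num) he (by simp) eig8 tab8 chk8_17

/-- the form for `e = 12` -/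
def c12 : Fin 8 → V4 := ![(1, 0, -2, 0), (2, -1, -1, -1), (0, 1, 0, -2), (0, 1, 0, 1), (-1, 0, 2, 0), (0, -1, 0, 2), (-1, -1, -1, -1), (0, 0, 0, 0)]

/-- the table of the root values -/
def T12 : List V4 := [
  (0, 0, 0, 0), (0, 0, 0, 0), (-1, -1, -1, -1), (-1, -2, -1, 1), (-2, -2, 1, 1), (-2, -1, 1, 2), (-2, 0, 1, 0),
  (0, -2, 0, 1), (0, -1, 0, -1), (0, 0, 0, 0), (-1, 0, 2, 0), (-1, -1, 2, 2), (-2, -2, 1, 1), (-2, -2, 1, 1),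
  (-1, 0, -1, 0), (1, -1, -2, -1), (1, 0, -2, 0), (0, 0, 0, 0), (0, -1, 0, 2), (-1, -2, -1, 1), (-1, -2, -1, 1),
  (1, 1, -2, -2), (0, 1, 0, -2), (0, 0, 0, 0), (-1, -1, -1, -1), (-1, -1, -1, -1), (0, 2, 0, -1), (0, 1, 0, 1),
  (-1, 0, -1, 0), (-1, 0, -1, 0), (-1, 1, 2, 1), (-2, 0, 1, 0), (-2, 0, 1, 0), (-2, -1, 1, 2), (-2, -1, 1, 2),
  (-3, -2, 0, 1), (2, 1, -1, -2), (2, 0, -1, 0), (1, -1, -2, -1), (1, -1, -2, -1), (1, 0, 1, 0), (0, -1, 0, -1),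
  (0, -1, 0, -1), (0, -2, 0, 1), (0, -2, 0, 1), (-1, -3, -1, 0), (1, 1, 1, 1), (0, 0, 0, 0), (0, 0, 0, 0),
  (0, -1, 0, 2), (0, -1, 0, 2), (-1, -2, -1, 1), (-1, -1, 2, 2), (-1, -1, 2, 2), (-2, -2, 1, 1), (-2, -3, 1, 3),
  (1, 2, 1, -1), (0, 1, 0, -2), (0, 1, 0, -2), (0, 0, 0, 0), (0, 0, 0, 0), (-1, -1, -1, -1), (-1, 0, 2, 0),
  (-1, 0, 2, 0), (-2, -1, 1, -1), (-2, -2, 1, 1), (-1, 1, 2, 1), (-1, 1, 2, 1), (-2, 0, 1, 0), (-2, -1, 1, 2),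
  (-3, -1, 3, 2), (1, 0, 1, 0), (1, 0, 1, 0), (0, -1, 0, -1), (0, -2, 0, 1), (-1, -2, 2, 1), (-1, -1, 2, 2),
  (-1, 0, 2, 0), (2, 2, -1, -1), (1, 1, -2, -2), (1, 1, -2, -2), (1, 0, -2, 0), (1, 0, -2, 0), (0, -1, -3, -1),
  (0, 0, 0, 0), (0, 0, 0, 0), (-1, -1, -1, -1), (-1, -2, -1, 1), (0, 1, 0, 1), (0, 1, 0, 1), (-1, 0, -1, 0),
  (-1, -1, -1, 2), (-2, -1, 1, 2), (0, 2, 0, -1), (0, 2, 0, -1), (-1, 1, -1, -2), (-1, 0, -1, 0), (-2, 0, 1, 0),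
  (-2, 1, 1, 1), (2, 0, -1, 0), (2, 0, -1, 0), (1, -1, -2, -1), (1, -2, -2, 1), (0, -2, 0, 1), (0, -1, 0, 2),
  (2, 1, -1, -2), (2, 1, -1, -2), (1, 0, -2, -3), (1, -1, -2, -1), (0, -1, 0, -1), (2, 2, -1, -1), (2, 2, -1, -1),
  (1, 1, -2, -2), (1, 0, -2, 0), (1, 2, 1, -1), (1, 2, 1, -1), (0, 1, 0, -2), (1, 1, 1, 1), (1, 1, 1, 1),
  (0, 0, 0, 0), (0, 0, 0, 0), (-1, -1, -1, -1), (-1, -1, -1, -1), (0, -1, 0, 2), (-1, -2, -1, 1), (-1, -2, -1, 1),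
  (-1, 0, 2, 0), (-1, -1, 2, 2), (-2, -2, 1, 1), (-2, -2, 1, 1), (0, 1, 0, 1), (-1, 1, 2, 1), (-1, 0, 2, 3),
  (-2, -1, 1, 2), (-2, -1, 1, 2), (0, 1, 0, -2), (0, 2, 0, -1), (-1, 2, 2, -1), (-1, 1, 2, 1), (-2, 0, 1, 0),
  (-2, 0, 1, 0), (2, -1, -1, -1), (2, 0, -1, 0), (1, 0, 1, 0), (1, -1, 1, 2), (0, -2, 0, 1), (0, -2, 0, 1),
  (2, 1, -1, -2), (1, 1, 1, -2), (1, 0, 1, 0), (0, -1, 0, -1), (0, -1, 0, -1), (1, 2, 1, -1), (1, 1, 1, 1),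
  (0, 0, 0, 0), (0, 0, 0, 0), (0, 1, 3, 1), (-1, 0, 2, 0), (-1, 0, 2, 0), (-1, -1, 2, 2), (-1, -1, 2, 2),
  (-2, -2, 1, 1), (1, 0, -2, 0), (1, 1, -2, -2), (1, 2, -2, -1), (0, 2, 0, -1), (0, 1, 0, 1), (-1, 0, -1, 0),
  (-1, 0, -1, 0), (3, 1, -3, -2), (2, 1, -1, -2), (2, 0, -1, 0), (1, -1, -2, -1), (1, -1, -2, -1), (2, 2, -1, -1),
  (2, 1, -1, 1), (1, 0, -2, 0), (1, 0, -2, 0), (1, 1, 1, 1), (0, 0, 0, 0), (0, 0, 0, 0), (0, -1, 0, 2),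
  (0, -1, 0, 2), (-1, -2, -1, 1), (2, 3, -1, -3), (2, 2, -1, -1), (1, 1, -2, -2), (1, 1, -2, -2), (1, 2, 1, -1),
  (0, 1, 0, -2), (0, 1, 0, -2), (0, 0, 0, 0), (0, 0, 0, 0), (-1, -1, -1, -1), (1, 3, 1, 0), (0, 2, 0, -1),
  (0, 2, 0, -1), (0, 1, 0, 1), (0, 1, 0, 1), (-1, 0, -1, 0), (-1, 1, 2, 1), (-1, 1, 2, 1), (-2, 0, 1, 0),
  (-2, -1, 1, 2), (3, 2, 0, -1), (2, 1, -1, -2), (2, 1, -1, -2), (2, 0, -1, 0), (2, 0, -1, 0), (1, -1, -2, -1),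
  (1, 0, 1, 0), (1, 0, 1, 0), (0, -1, 0, -1), (0, -2, 0, 1), (1, 1, 1, 1), (1, 1, 1, 1), (0, 0, 0, 0),
  (0, -1, 0, 2), (-1, -1, 2, 2), (1, 2, 1, -1), (1, 2, 1, -1), (0, 1, 0, -2), (0, 0, 0, 0), (-1, 0, 2, 0),
  (-1, 1, 2, 1), (1, 0, 1, 0), (2, 2, -1, -1), (2, 2, -1, -1), (1, 1, -2, -2), (1, 0, -2, 0), (0, 0, 0, 0),
  (0, 1, 0, 1), (0, 2, 0, -1), (2, 0, -1, 0), (2, 1, -1, -2), (2, 2, -1, -1), (1, 2, 1, -1), (1, 1, 1, 1),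
  (0, 0, 0, 0), (0, 0, 0, 0)]

theorem tab12 : tab chevE8 8 c12 = T12 := by decide +kernel

theorem eig12 : okEig (cartanOf chevE8 8) [0, 1, 2, 3, 4, 5] c12 (Ph 12) ![0, 1, 2, -1, 0, -2, 1, 0] := by
  unfold okEig
  decide +kernel

theorem chk12_13 : chkAll 13 (Ph 12) T12 [(19, 1, (-1, -1, -1, -1)), (80, 11, (-1, -1, -1, -1)), (89, 5, (-1, -1, -1, -1)), (150, 3, (-1, -1, -1, -1))] = true := by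
  decide +kernel

/-- `E8`, `e = 12`, `p = 13` -/
theorem hasElt12_13 (F : Type) [Field F] [Fintype F] (hF : ¬ 13 ∣ Fintype.card F)
    (he : orderOf ((Fintype.card F : ℕ) : ZMod 13) = 12) : HasElt 13 (chevE8.group F) (Fintype.card F) := by
  have : Fact (Nat.Prime 13) := ⟨by norm_num⟩
  exact hasElt_cell e8T F hF inv_E8 (by norm_num) (by norm_num) he (by simp) eig12 tab12 chk12_13

end Cfsg.Agent.H395.HT.E8
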