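import Mathlib
import Cfsg.Agent.H395.HT.Cells

/-!
# S4933, part (O): the cells of F4 (kernel checks)
-/

set_option autoImplicit false
set_option maxRecDepth 100000

namespace Cfsg.Agent.H395.HT.F4

open Cfsg Cfsg.Lie Cfsg.Agent.ChevalleyStructure Cfsg.Agent.ChevalleyStructure.CoxeterGeomTypes
open Cfsg.Agent.BpExc.FamInst Cfsg.Agent.BpExc.RowsUntw Cfsg.Agent.H234.HT Cfsg.Agent.H395.HT

/-- the form for `e = 3` -/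
def c3 : Fin 4 → V4 := ![(-1, -2, 0, 0), (2, 1, 0, 0), (-2, 0, 0, 0), (0, 0, 0, 0)]

/-- the table of the root values -/
def T3 : List V4 := [
  (0, 0, 0, 0), (0, 0, 0, 0), (-2, 0, 0, 0), (0, 1, 0, 0), (2, 2, 0, 0), (0, 2, 0, 0), (0, 2, 0, 0),
  (-1, -1, 0, 0), (1, 0, 0, 0), (-1, 0, 0, 0), (-1, 0, 0, 0), (1, 1, 0, 0), (1, 1, 0, 0), (-1, 1, 0, 0),
  (1, 2, 0, 0), (0, -2, 0, 0), (-2, -2, 0, 0), (-2, -2, 0, 0), (0, -1, 0, 0), (0, -1, 0, 0), (-2, -1, 0, 0),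
  (2, 0, 0, 0), (2, 0, 0, 0), (0, 0, 0, 0), (0, 0, 0, 0), (-2, 0, 0, 0), (-2, 0, 0, 0), (2, 1, 0, 0), (0, 1, 0, 0),
  (0, 1, 0, 0), (2, 2, 0, 0), (2, 2, 0, 0), (0, 2, 0, 0), (-1, -2, 0, 0), (1, -1, 0, 0), (-1, -1, 0, 0),
  (-1, -1, 0, 0), (1, 0, 0, 0), (1, 0, 0, 0), (-1, 0, 0, 0), (1, 1, 0, 0), (0, -2, 0, 0), (0, -2, 0, 0),
  (-2, -2, 0, 0), (0, -1, 0, 0), (2, 0, 0, 0), (0, 0, 0, 0), (0, 0, 0, 0)]

theorem tab3 : tab chevF4 4 c3 = T3 := by decide +kernel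

theorem eig3 : okEig (cartanOf chevF4 4) [0, 1] c3 (Ph 3) ![2, -1, 0, 0] := by
  unfold okEig
  decide +kernel

theorem chk3_7 : chkAll 7 (Ph 3) T3 [(18, 5, (-2, 0, 0, 0)), (30, 5, (-2, 0, 0, 0))] = true := by
  decide +kernel

/-- `F4`, `e = 3`, `p = 7` -/
theorem hasElt3_7 (F : Type) [Field F] [Fintype F] (hF : ¬ 7 ∣ Fintype.card F)
    (he : orderOf ((Fintype.card F : ℕ) : ZMod 7) = 3) : HasElt 7 (chevF4.group F) (Fintype.card F) := by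
  have : Fact (Nat.Prime 7) := ⟨by norm_num⟩
  exact hasElt_cell f4T F hF inv_F4 (by norm_num) (by norm_num) he (by simp) eig3 tab3 chk3_7

/-- the form for `e = 6` -/
def c6 : Fin 4 → V4 := ![(-1, 1, 0, 0), (0, -1, 0, 0), (1, 0, 0, 0), (0, 1, 0, 0)]

/-- the table of the root values -/
def T6 : List V4 := [
  (-1, 0, 0, 0), (-1, 1, 0, 0), (0, 1, 0, 0), (0, 0, 0, 0), (0, -1, 0, 0), (1, -1, 0, 0), (1, 0, 0, 0),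
  (-1, 1, 0, 0), (-1, 0, 0, 0), (0, 0, 0, 0), (0, 1, 0, 0), (0, -1, 0, 0), (0, 0, 0, 0), (1, 0, 0, 0),
  (1, -1, 0, 0), (-2, 1, 0, 0), (-1, 1, 0, 0), (-1, 2, 0, 0), (-1, 0, 0, 0), (-1, 1, 0, 0), (0, 1, 0, 0),
  (-1, -1, 0, 0), (-1, 0, 0, 0), (0, -1, 0, 0), (0, 1, 0, 0), (1, 0, 0, 0), (1, 1, 0, 0), (0, -1, 0, 0),
  (1, -1, 0, 0), (1, 0, 0, 0), (1, -2, 0, 0), (1, -1, 0, 0), (2, -1, 0, 0), (-1, 1, 0, 0), (-1, 0, 0, 0),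
  (0, 0, 0, 0), (0, 1, 0, 0), (0, -1, 0, 0), (0, 0, 0, 0), (1, 0, 0, 0), (1, -1, 0, 0), (-1, 0, 0, 0),
  (-1, 1, 0, 0), (0, 1, 0, 0), (0, 0, 0, 0), (0, -1, 0, 0), (1, -1, 0, 0), (1, 0, 0, 0)]

theorem tab6 : tab chevF4 4 c6 = T6 := by decide +kernel

theorem eig6 : okEig (cartanOf chevF4 4) [1, 2, 3] c6 (Ph 6) ![-1, 1, 0, -1] := by
  unfold okEig
  decide +kernel

theorem chk6_7 : chkAll 7 (Ph 6) T6 [(19, 6, (-1, 0, 0, 0)), (31, 6, (-1, 0, 0, 0))] = true := by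
  decide +kernel

/-- `F4`, `e = 6`, `p = 7` -/
theorem hasElt6_7 (F : Type) [Field F] [Fintype F] (hF : ¬ 7 ∣ Fintype.card F)
    (he : orderOf ((Fintype.card F : ℕ) : ZMod 7) = 6) : HasElt 7 (chevF4.group F) (Fintype.card F) := by
  have : Fact (Nat.Prime 7) := ⟨by norm_num⟩
  exact hasElt_cell f4T F hF inv_F4 (by norm_num) (by norm_num) he (by simp) eig6 tab6 chk6_7

/-- the form for `e = 4` -/
def c4 : Fin 4 → V4 := ![(-1, 0, 0, 0), (1, -1, 0, 0), (0, 2, 0, 0), (-1, -1, 0, 0)]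

/-- the table of the root values -/
def T4 : List V4 := [
  (0, 0, 0, 0), (-1, -1, 0, 0), (-1, 1, 0, 0), (0, 0, 0, 0), (1, -1, 0, 0), (1, 1, 0, 0), (0, 0, 0, 0),
  (-1, 0, 0, 0), (0, -1, 0, 0), (0, 1, 0, 0), (-1, 0, 0, 0), (1, 0, 0, 0), (0, -1, 0, 0), (0, 1, 0, 0),
  (1, 0, 0, 0), (-1, -1, 0, 0), (-1, 1, 0, 0), (-2, 0, 0, 0), (0, 0, 0, 0), (-1, -1, 0, 0), (-1, 1, 0, 0),
  (1, -1, 0, 0), (0, -2, 0, 0), (1, 1, 0, 0), (-1, -1, 0, 0), (0, 2, 0, 0), (-1, 1, 0, 0), (1, -1, 0, 0),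
  (1, 1, 0, 0), (0, 0, 0, 0), (2, 0, 0, 0), (1, -1, 0, 0), (1, 1, 0, 0), (-1, 0, 0, 0), (0, -1, 0, 0),
  (0, 1, 0, 0), (-1, 0, 0, 0), (1, 0, 0, 0), (0, -1, 0, 0), (0, 1, 0, 0), (1, 0, 0, 0), (0, 0, 0, 0),
  (-1, -1, 0, 0), (-1, 1, 0, 0), (0, 0, 0, 0), (1, -1, 0, 0), (1, 1, 0, 0), (0, 0, 0, 0)]

theorem tab4 : tab chevF4 4 c4 = T4 := by decide +kernel

theorem eig4 : okEig (cartanOf chevF4 4) [1, 2] c4 (Ph 4) ![0, 1, -2, 1] := by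
  unfold okEig
  decide +kernel

theorem chk4_5 : chkAll 5 (Ph 4) T4 [(7, 2, (-1, 0, 0, 0)), (18, 1, (-1, 0, 0, 0))] = true := by
  decide +kernel

/-- `F4`, `e = 4`, `p = 5` -/
theorem hasElt4_5 (F : Type) [Field F] [Fintype F] (hF : ¬ 5 ∣ Fintype.card F)
    (he : orderOf ((Fintype.card F : ℕ) : ZMod 5) = 4) : HasElt 5 (chevF4.group F) (Fintype.card F) := by
  have : Fact (Nat.Prime 5) := ⟨by norm_num⟩
  exact hasElt_cell f4T F hF inv_F4 (by norm_num) (by norm_num) he (by simp) eig4 tab4 chk4_5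

end Cfsg.Agent.H395.HT.F4
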